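import Groth.Agent.Ribbon.K932.SqZero
import Groth.Agent.CohqA.IdealMod
import Groth.Agent.FormalA.ClosedImm

/-!
# The ideal of a closed subscheme cut out by an ideal of square zero is a module on the subscheme
-/

set_option autoImplicit false
universe u
open CategoryTheory CategoryTheory.Limits AlgebraicGeometry
open Groth.Agent Groth.Agent.CohqA.IdealMod

namespace K932.SqKill

variable {C : Scheme.{u}} (I : C.IdealSheafData)

theorem smul_idealMod (hI : I ^ 2 = ⊥) (U : C.affineOpens) (a : Γ(C, U.1)) (ha : a ∈ I.ideal U)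
    (m : Γ(ClSub.idealMod I, U.1)) : a • m = 0 := by
  apply idealModLin_injective I U.1
  have h0 : idealModLin I U.1 (a • m) = a * idealModLin I U.1 m := map_smul (idealModLin I U.1) a m
  rw [h0, map_zero]
  have h1 : idealModLin I U.1 m ∈ I.ideal U := by
    rw [← range_idealModLin]
    exact ⟨m, rfl⟩
  have h2 : a * idealModLin I U.1 m ∈ I.ideal U ^ 2 := by
    rw [pow_two]
    exact Ideal.mul_mem_mul ha h1
  rw [SqZero.ideal_sq I hI U] at h2
  exact h2

theorem killed_idealMod (hI : I ^ 2 = ⊥) : ClSub.KilledByIdeal I (ClSub.idealMod I) :=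
  fun U a ha m => smul_idealMod I hI U a ha m

/-- `ι_* ι^* I ≅ I` when `I² = 0`. -/
noncomputable def pushPullIdeal (hI : I ^ 2 = ⊥) :
    (Scheme.Modules.pushforward I.subschemeι).obj
      ((Scheme.Modules.pullback I.subschemeι).obj (ClSub.idealMod I)) ≅ ClSub.idealMod I :=
  FormalA.ClosedImm.pushPullIso I.subschemeι (by
    rw [Scheme.IdealSheafData.ker_subschemeι]
    exact killed_idealMod I hI)

theorem smul_bot {Y : Scheme.{u}} (M : Y.Modules) (U : Y.affineOpens) (a : Γ(Y, U.1))
    (ha : a ∈ (⊥ : Y.IdealSheafData).ideal U) (m : Γ(M, U.1)) : a • m = 0 := by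
  have h1 : a = 0 := by simpa using ha
  rw [h1, zero_smul]

theorem killed_bot {Y : Scheme.{u}} (M : Y.Modules) : ClSub.KilledByIdeal ⊥ M :=
  fun U a ha m => smul_bot M U a ha m

/-- `f_* f^* M ≅ M` for an isomorphism `f`. -/
noncomputable def pushPullOfIso {X Y : Scheme.{u}} (f : X ⟶ Y) [IsIso f] (M : Y.Modules) :
    (Scheme.Modules.pushforward f).obj ((Scheme.Modules.pullback f).obj M) ≅ M :=
  FormalA.ClosedImm.pushPullIso f (by
    rw [Scheme.Hom.ker_eq_bot_of_isIso f]
    exact killed_bot M)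

end K932.SqKill
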