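import Groth.Agent.VarietyB.DegPhi
import Groth.Agent.VarietyB.DegCartier
import Groth.Agent.Dix.Cast2
import Groth.Agent.S10962
import Groth.Agent.PerfB.TensUnit
import Groth.Agent.Ribbon.K932.SqKill

/-!
# Degrees on the projective line
-/

set_option autoImplicit false
universe u
open CategoryTheory CategoryTheory.Limits AlgebraicGeometry
open Groth.Agent Groth.Agent.VarietyB Groth.Agent.VarietyB.DegPhi Groth.Agent.VarietyB.TensCoh
open Groth.Agent.VarietyB.ProjForm

namespace K932.P1Deg

variable (k : Type u) [Field k]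

theorem finrank_twist_zero (m : ℤ) (hm : -1 ≤ m) :
    (Module.finrank k (Coh.HH (CohB1.ProjSpace 1 k) (Twist.twistProjSpace 1 k m) 0) : ℤ) = m + 1 := by
  rcases le_or_gt 0 m with h | h
  · obtain ⟨d, rfl⟩ := Int.eq_ofNat_of_zero_le h
    obtain ⟨e⟩ := Groth.Agent.S0843.result k 1 d
    rw [e.finrank_eq, Dix.Cast2.finrank_homogeneous_two]
    push_cast
    ring
  · obtain rfl : m = -1 := by omega
    have h0 := Groth.Agent.S0844.result k 1 (-1) 0 (by omega) (by omega)
    rw [Module.finrank_zero_of_subsingleton]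
    simp

theorem subsingleton_twist_zero (m : ℤ) (hm : m < 0) :
    Subsingleton (Coh.HH (CohB1.ProjSpace 1 k) (Twist.twistProjSpace 1 k m) 0) :=
  Groth.Agent.S0844.result k 1 m 0 (by omega) (by omega)

theorem subsingleton_twist_one (m : ℤ) (hm : -1 ≤ m) :
    Subsingleton (Coh.HH (CohB1.ProjSpace 1 k) (Twist.twistProjSpace 1 k m) 1) :=
  Groth.Agent.S0844.result k 1 m 1 (by omega) (by omega)

theorem finrank_twist_one (m : ℤ) (hm : m ≤ -1) :
    (Module.finrank k (Coh.HH (CohB1.ProjSpace 1 k) (Twist.twistProjSpace 1 k m) 1) : ℤ) = -m - 1 := by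
  rcases eq_or_ne m (-1) with rfl | hne
  · have h1 := Groth.Agent.S0844.result k 1 (-1) 1 (by omega) (by omega)
    rw [Module.finrank_zero_of_subsingleton]
    simp
  · obtain ⟨j, hj⟩ : ∃ j : ℕ, m = -(((1 : ℕ) : ℤ) + 1 + j) := ⟨(-m - 2).toNat, by omega⟩
    obtain ⟨e⟩ := Groth.Agent.S0845.result k 1 j
    rw [← hj] at e
    rw [e.finrank_eq, Dix.Cast2.finrank_homogeneous_two]
    push_cast
    omega

/-- `χ(P¹, O(m)) = m + 1` -/
theorem euler_twist (m : ℤ) :
    Curv2.euler k (CohB1.ProjSpace 1 k) (Twist.twistProjSpace 1 k m) = m + 1 := by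
  unfold Curv2.euler
  rw [finsum_eq_sum_of_support_subset (s := Finset.range 2)]
  · have := Dix.Cast2.eulerCharLE_twist k m
    rw [Dix.Cast2.eulerCharLE_eq] at this
    simp only [Finset.sum_range_succ, Finset.sum_range_zero, zero_add, pow_zero, one_mul, pow_one]
    rw [← this]
    ring
  · intro i hi
    simp only [Function.mem_support] at hi
    by_contra hi'
    simp only [Finset.coe_range, Set.mem_Iio, not_lt] at hi'
    have := Groth.Agent.S0844.result k 1 m i (by omega) (by omega)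
    apply hi
    rw [Module.finrank_zero_of_subsingleton]
    simp

theorem isInvertible_twist (m : ℤ) : PicF.IsInvertible (Twist.twistProjSpace 1 k m) :=
  Groth.Agent.S10962.isInvertible_twist k 1 m

theorem isCoh_of_isInvertible {X : Scheme.{u}} {L : X.Modules} (hL : PicF.IsInvertible L) : Coh.IsCoh L :=
  isCoh_of_hasBases (HasBases.of_isFinLocFreeOfRank (DegCartier.isFinLocFreeOfRank_one hL))

theorem hasBases {X : Scheme.{u}} {L : X.Modules} (hL : PicF.IsInvertible L) : HasBases L :=
  HasBases.of_isFinLocFreeOfRank (DegCartier.isFinLocFreeOfRank_one hL)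

/-- `χ(O(n) ⊗ O(m)) - χ(O(m)) = n` -/
theorem phi_twist (n m : ℤ) :
    phi k (CohB1.ProjSpace 1 k) (Twist.twistProjSpace 1 k n) 1 (Twist.twistProjSpace 1 k m) = n := by
  unfold phi
  obtain ⟨e⟩ := Groth.Agent.S10962.nonempty_tensor k 1 n m
  rw [euler_congr k e, euler_twist, euler_twist]
  push_cast
  ring

section

variable {X : Scheme.{u}} [X.Over (Spec (CommRingCat.of k))] {n : ℕ}

theorem phi_congr_left {E E' : X.Modules} (e : E ≅ E') (F : X.Modules) :
    phi k X E n F = phi k X E' n F := by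
  unfold phi
  rw [euler_congr k (Ega2.Tens.mapTIso e (Iso.refl F))]

/-- `φ_E(f_* G) = φ_{f^* E}(G)` for an affine morphism. -/
theorem phi_push' {E : X.Modules} {X' : Scheme.{u}} [X'.Over (Spec (CommRingCat.of k))] (f : X' ⟶ X)
    (hf : f ≫ (X ↘ (Spec (CommRingCat.of k))) = X' ↘ (Spec (CommRingCat.of k))) [IsAffineHom f]
    (hE : HasBases E) (G : X'.Modules) (hG : Coh.IsCoh G) :
    phi k X E n ((Scheme.Modules.pushforward f).obj G) =
      phi k X' ((Scheme.Modules.pullback f).obj E) n G := by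
  unfold phi
  have h1 : Coh.IsQCoh (CohB1.tensorMod ((Scheme.Modules.pullback f).obj E) G) :=
    (isCoh_tensorMod (HasBases.pullback f hE) hG).1
  rw [euler_congr k (projIso f hE G)]
  have h2 := HHPush.euler_push f k hf _ h1
  have h3 := HHPush.euler_push f k hf _ hG.1
  rw [← h2, ← h3]

/-- `φ` on a scheme isomorphic to the projective line. -/
theorem phi_p1 (e : X ≅ CohB1.ProjSpace 1 k)
    (he : e.hom ≫ CohB1.ProjSpace.toSpec 1 k = X ↘ (Spec (CommRingCat.of k))) {n m : ℤ} {L M : X.Modules}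
    (hL : Nonempty (L ≅ (Scheme.Modules.pullback e.hom).obj (Twist.twistProjSpace 1 k n)))
    (hM : Nonempty (M ≅ (Scheme.Modules.pullback e.hom).obj (Twist.twistProjSpace 1 k m))) :
    phi k X L 1 M = n := by
  obtain ⟨eL⟩ := hL
  obtain ⟨eM⟩ := hM
  have h1 : Coh.IsCoh ((Scheme.Modules.pullback e.hom).obj (Twist.twistProjSpace 1 k m)) :=
    isCoh_of_hasBases (HasBases.pullback e.hom (hasBases (isInvertible_twist k m)))
  rw [phi_congr_left k eL, phi_congr k _ 1 eM,
    ← phi_push' k e.hom he (hasBases (isInvertible_twist k n)) _ h1,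
    phi_congr k _ 1 (SqKill.pushPullOfIso e.hom (Twist.twistProjSpace 1 k m)), phi_twist]

end

theorem unit_pull {X : Scheme.{u}} (e : X ≅ CohB1.ProjSpace 1 k) :
    Nonempty (Coh.structureModule X ≅
      (Scheme.Modules.pullback e.hom).obj (Twist.twistProjSpace 1 k 0)) := by
  obtain ⟨e0⟩ := Groth.Agent.S10962.nonempty_twist_zero k 1
  exact ⟨(PerfB.TensUnit.pullbackUnit e.hom).symm ≪≫ (Scheme.Modules.pullback e.hom).mapIso e0.symm⟩

end K932.P1Deg
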