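import Groth.Agent.Ribbon.K932.RibP1
import Groth.Agent.S1697

/-!
# Invertible modules on a scheme isomorphic to the projective line
-/

set_option autoImplicit false
universe u
open CategoryTheory CategoryTheory.Limits AlgebraicGeometry TopologicalSpace
open Groth.Agent

namespace K932.RibPic

/-- `f^* (f⁻¹)^* N ≅ N` -/
noncomputable def pullInvIso {X Y : Scheme.{u}} (e : X ≅ Y) (N : X.Modules) :
    (Scheme.Modules.pullback e.hom).obj ((Scheme.Modules.pullback e.inv).obj N) ≅ N :=
  (Scheme.Modules.pullbackComp e.hom e.inv).app N ≪≫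
    (Scheme.Modules.pullbackCongr e.hom_inv_id).app N ≪≫ (Scheme.Modules.pullbackId X).app N

variable (k : Type u) [Field k] {X : Scheme.{u}} (e : X ≅ CohB1.ProjSpace 1 k)

theorem exists_iso (N : X.Modules) (hN : PicF.IsInvertible N) :
    ∃ m : ℤ, Nonempty (N ≅ (Scheme.Modules.pullback e.hom).obj (Twist.twistProjSpace 1 k m)) := by
  obtain ⟨m, ⟨f⟩⟩ := S1697.result k 1 ((Scheme.Modules.pullback e.inv).obj N)
    (Fdesc.LocGen.isInvertible_pullback e.inv hN)
  exact ⟨m, ⟨(pullInvIso e N).symm ≪≫ (Scheme.Modules.pullback e.hom).mapIso f⟩⟩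

end K932.RibPic
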