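import Groth.Agent.Ribbon.K932.RibGen
import Groth.Agent.CurvesC.DualRep
import Groth.Agent.CurvesC.DegZeroSec512

/-!
# Sections of line bundles on the ribbon and their restriction to `D`; faithfulness of `B ⊗ -`
-/

set_option autoImplicit false
universe u
open CategoryTheory CategoryTheory.Limits AlgebraicGeometry TopologicalSpace
open Groth.Agent Groth.Agent.VarietyB

namespace K932.RibSplit

open K932.Hdim K932.RibCoh Ega2.Tens
open Fdesc.LocGen (pullHom pullSec sec_pullHom homOf)

section Tens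

variable {X : Scheme.{u}} {A B M N : X.Modules}

theorem tensMap_zero_of_tensMap_zero (φ : M ⟶ N) (h : RestrSeq.tensMap B φ = 0) :
    RestrSeq.tensMap (CohB1.tensorMod A B) φ = 0 := by
  have h1 : RestrSeq.tensMap (CohB1.tensorMod A B) φ ≫ (assoc A B N).hom =
      (assoc A B M).hom ≫ RestrSeq.tensMap A (RestrSeq.tensMap B φ) := by
    refine hom_ext₃ _ _ fun U a b m => ?_
    have e1 : (RestrSeq.tensMap (CohB1.tensorMod A B) φ).app U (tmul (tmul a b) m) =
      tmul (tmul a b) (φ.app U m) := TensLoc.tensorBi_map_app_tmul _ φ _ _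
    have e2 : (RestrSeq.tensMap A (RestrSeq.tensMap B φ)).app U (tmul a (tmul b m)) =
      tmul a ((RestrSeq.tensMap B φ).app U (tmul b m)) := TensLoc.tensorBi_map_app_tmul _ _ _ _
    have e3 : (RestrSeq.tensMap B φ).app U (tmul b m) = tmul b (φ.app U m) :=
      TensLoc.tensorBi_map_app_tmul _ φ _ _
    change (assocHom A B N).app U ((RestrSeq.tensMap (CohB1.tensorMod A B) φ).app U (tmul (tmul a b) m)) =
      (RestrSeq.tensMap A (RestrSeq.tensMap B φ)).app U ((assocHom A B M).app U (tmul (tmul a b) m))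
    rw [e1, assocHom_tmul, assocHom_tmul, e2, e3]
  rw [h] at h1
  have h2 : RestrSeq.tensMap A (0 : CohB1.tensorMod B M ⟶ CohB1.tensorMod B N) = 0 :=
    Functor.map_zero _ _ _
  rw [h2, comp_zero] at h1
  rw [← cancel_mono (assoc A B N).hom, h1, zero_comp]

/-- Tensoring with an invertible module is faithful. -/
theorem eq_zero_of_tensMap (e : CohB1.tensorMod A B ≅ Coh.structureModule X) (φ : M ⟶ N)
    (h : RestrSeq.tensMap B φ = 0) : φ = 0 := by
  have h1 : (DCoh.tensorBi.obj (CohB1.tensorMod A B)).map φ = 0 :=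
    tensMap_zero_of_tensMap_zero (A := A) φ h
  have h2 : (DCoh.tensorBi.obj (Coh.structureModule X)).map φ ≫ (lunit N).hom = (lunit M).hom ≫ φ := by
    refine Ega2.Tens.hom_ext _ _ fun U a m => ?_
    let r : Γ(X, U) := a
    have e1 := TensLoc.tensorBi_map_app_tmul (Coh.structureModule X) φ (sm r) m
    have e3 : (lunit N).hom.app U (tmul (sm r) (φ.app U m)) = r • φ.app U m := lunit_hom_tmul r (φ.app U m)
    have e4 : (lunit M).hom.app U (tmul (sm r) m) = r • m := lunit_hom_tmul r m
    refine (congrArg ((lunit N).hom.app U) e1).trans (e3.trans ?_)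
    refine Eq.trans ?_ (congrArg (φ.app U) e4).symm
    exact (Scheme.Modules.Hom.app_smul φ r m).symm
  have h3 : (DCoh.tensorBi.obj (Coh.structureModule X)).map φ = 0 := by
    have h4 := (DCoh.tensorBi.map e.hom).naturality φ
    rw [h1, zero_comp] at h4
    have h5 : IsIso ((DCoh.tensorBi.map e.hom).app M) := inferInstance
    rw [← cancel_epi ((DCoh.tensorBi.map e.hom).app M), comp_zero]
    exact h4.symm
  rw [h3] at h2
  rw [← cancel_epi (lunit M).hom, ← h2, comp_zero]
  exact zero_comp

end Tens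

section Sections

variable (k : Type u) [Field k] {X : Scheme.{u}} [X.Over (Spec (CommRingCat.of k))]

include k

theorem injective_app_top {A B D : X.Modules} {f : A ⟶ B} {g : B ⟶ D} {w : f ≫ g = 0}
    (hS : (ShortComplex.mk f g w).ShortExact) (h0 : Van X A 0) : Function.Injective (g.app ⊤) := by
  have hinj := SecLift.injective_mapA k (ShortComplex.mk f g w) hS h0
  intro s t hst
  have h1 : VarietyA.EulerLES.mapA k g 0 ((CurvesB.HZero.equivAdd B).symm s) =
      VarietyA.EulerLES.mapA k g 0 ((CurvesB.HZero.equivAdd B).symm t) := by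
    apply (CurvesB.HZero.equivAdd D).injective
    refine (CurvesB.HZero.equivAdd_map g _).trans (Eq.trans ?_ (CurvesB.HZero.equivAdd_map g _).symm)
    rw [AddEquiv.apply_symm_apply, AddEquiv.apply_symm_apply, hst]
  exact (CurvesB.HZero.equivAdd B).symm.injective (hinj h1)

/-- `H^1(A) ≠ 0` implies `H^1(B) ≠ 0` if all sections of `D` lift. -/
theorem not_van_one {A B D : X.Modules} {f : A ⟶ B} {g : B ⟶ D} {w : f ≫ g = 0}
    (hS : (ShortComplex.mk f g w).ShortExact) (hs : Function.Surjective (g.app ⊤))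
    (h1 : Van X B 1) : Van X A 1 := by
  have h1' : Subsingleton (CurvesC.HV X B 1) := h1
  refine ⟨fun x y => ?_⟩
  have key : ∀ x : CurvesC.HV X A 1, x = 0 := fun x => by
    obtain ⟨y, hy⟩ := CurvesC.HV.exact₁ k hS 0 x (Subsingleton.elim (α := CurvesC.HV X B 1) _ _)
    obtain ⟨z, hz⟩ := hs (CurvesB.HZero.equivAdd D y)
    have h2 : CurvesC.HV.map k g 0 ((CurvesB.HZero.equivAdd B).symm z) = y := by
      apply (CurvesB.HZero.equivAdd D).injective
      refine (CurvesB.HZero.equivAdd_map g _).trans ?_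
      rw [AddEquiv.apply_symm_apply]
      exact hz
    rw [← hy, ← h2]
    exact CurvesC.HV.δ_map k hS 0 _
  exact (key x).trans (key y).symm

theorem injective_unit {E : X.Modules} (hE : TensCoh.HasBases E) (D : X.IdealSheafData)
    (h0 : Van X (CohB1.tensorMod E (ClSub.idealMod D)) 0) :
    Function.Injective
      (((Scheme.Modules.pullbackPushforwardAdjunction D.subschemeι).unit.app E).app ⊤) := by
  rw [← SecLift.toRestr_eq_unit hE D]
  exact injective_app_top k (RestrSeq.restrSeq_shortExact hE D) h0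

omit k [Field k] [X.Over (Spec (CommRingCat.of k))] in
theorem pullHom_ne_zero {X X' : Scheme.{u}} (i : X ⟶ X') {N' : X'.Modules}
    (hl : Function.Injective (((Scheme.Modules.pullbackPushforwardAdjunction i).unit.app N').app ⊤))
    (s : Coh.structureModule X' ⟶ N') (hs : s ≠ 0) : pullHom i s ≠ 0 := by
  intro h
  apply hs
  apply Fdesc.LocGen.hom_ext_sec
  apply hl
  have h2 := sec_pullHom i s ⊤
  rw [h] at h2
  have h3 : Fdesc.LocGen.sec (0 : Coh.structureModule X' ⟶ N') ⊤ = 0 := rfl
  rw [h3, map_zero]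
  exact h2.symm

end Sections

/-- `T → f_* f^* T` is bijective on global sections for an isomorphism `f`. -/
theorem bijective_unit_iso {D P : Scheme.{u}} (f : D ⟶ P) [IsIso f] (T : P.Modules) :
    Function.Bijective (((Scheme.Modules.pullbackPushforwardAdjunction f).unit.app T).app ⊤) := by
  have h1 : IsIso ((Scheme.Modules.pullbackPushforwardAdjunction f).unit.app T) :=
    FormalA.ClosedImm.isIso_unit f (by
      rw [Scheme.Hom.ker_eq_bot_of_isIso f]
      exact SqKill.killed_bot T)
  exact ConcreteCategory.bijective_of_isIso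
    (((Scheme.Modules.pullbackPushforwardAdjunction f).unit.app T).app ⊤)

/-- If `j ≫ q` is an isomorphism, then sections of `j^* q^* T` lift to sections of `q^* T`. -/
theorem surjective_unit_retract {D C P : Scheme.{u}} (j : D ⟶ C) (q : C ⟶ P) [IsIso (j ≫ q)]
    (T : P.Modules) :
    Function.Surjective (((Scheme.Modules.pullbackPushforwardAdjunction j).unit.app
      ((Scheme.Modules.pullback q).obj T)).app ⊤) := by
  intro s
  obtain ⟨m, hm⟩ := (bijective_unit_iso (j ≫ q) T).2 (((Scheme.Modules.pullbackComp j q).hom.app T).app ⊤ s)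
  refine ⟨pullSec q m, ?_⟩
  have h3 : Function.Injective (((Scheme.Modules.pullbackComp j q).hom.app T).app ⊤) :=
    (ConcreteCategory.bijective_of_isIso (((Scheme.Modules.pullbackComp j q).hom.app T).app ⊤)).1
  apply h3
  exact (Fdesc.LocGen.pullSec_comp' j q m).trans hm

section Curve

variable (k : Type u) [Field k] {C : Scheme.{u}} [C.Over (Spec (CommRingCat.of k))]
  [IsProper (C ↘ (Spec (CommRingCat.of k)))] {I : C.IdealSheafData} (hI : I ^ 2 = ⊥)
  (e : I.subscheme ≅ CohB1.ProjSpace 1 k)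
  (he : e.hom ≫ CohB1.ProjSpace.toSpec 1 k = I.subschemeι ≫ (C ↘ (Spec (CommRingCat.of k))))

include e in
/-- A nonzero section of a trivial line bundle on `D = P¹` vanishes nowhere. -/
theorem genLocus_eq_top {G : I.subscheme.Modules}
    (hG : Nonempty (G ≅ (Scheme.Modules.pullback e.hom).obj (Twist.twistProjSpace 1 k 0)))
    (s : Coh.structureModule I.subscheme ⟶ G) (hs : s ≠ 0) : CohB1.genLocus G s = ⊤ := by
  obtain ⟨eG⟩ := hG
  obtain ⟨eU⟩ := P1Deg.unit_pull k e
  let _ : (I.subscheme).Over (Spec (CommRingCat.of k)) :=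
    ⟨I.subschemeι ≫ (C ↘ (Spec (CommRingCat.of k)))⟩
  have := RibP1.isIntegral_subscheme k I e
  have : IsProper (I.subscheme ↘ (Spec (CommRingCat.of k))) :=
    inferInstanceAs (IsProper (I.subschemeι ≫ (C ↘ (Spec (CommRingCat.of k)))))
  have hdim : topologicalKrullDim I.subscheme = 1 := by
    rw [(e.hom.homeomorph.isHomeomorph).topologicalKrullDim_eq, S10829.result k 1]
    rfl
  have hdeg : Curv2.deg k I.subscheme G 1 ≤ 0 := by
    rw [CurvesC.DegIso.deg_congr k (eG ≪≫ eU.symm) 1]
    unfold Curv2.deg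
    simp
  exact (CurvesC.DegZeroSec512.zero_or_top k I.subscheme hdim G
    (RibP1.isInvertible_of_iso_pull k e.hom ⟨eG⟩) s hdeg).resolve_left hs

include hI he in
/-- A nonzero section of a line bundle `N` on the ribbon with `N|_D` trivial and `c < 0` is an isomorphism. -/
theorem isIso_of_ne_zero {N : C.Modules} (hN : PicF.IsInvertible N) {c : ℤ} (hc0 : c < 0)
    (ha : Nonempty ((Scheme.Modules.pullback I.subschemeι).obj N ≅
      (Scheme.Modules.pullback e.hom).obj (Twist.twistProjSpace 1 k 0)))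
    (hc : Nonempty ((Scheme.Modules.pullback I.subschemeι).obj (ClSub.idealMod I) ≅
      (Scheme.Modules.pullback e.hom).obj (Twist.twistProjSpace 1 k c)))
    (s : Coh.structureModule C ⟶ N) (hs : s ≠ 0) : IsIso s := by
  have h1 : Van C (CohB1.tensorMod N (ClSub.idealMod I)) 0 :=
    (tensor_ideal k hI e he hN ha hc 0).2 (van_twist_zero k _ (by omega))
  have h2 := pullHom_ne_zero I.subschemeι
    (injective_unit k (P1Deg.hasBases hN) I h1) s hs
  have h3 := genLocus_eq_top k e ha _ h2
  apply CurvesC.DegZeroSec512.isIso_of_genLocus_eq_top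
  rw [Ega1.AmpFam.genLocus_pullHom I.subschemeι hN] at h3
  rw [eq_top_iff]
  intro x _
  obtain ⟨y, rfl⟩ := SqZero.surjective_subschemeι I hI x
  have h4 : y ∈ I.subschemeι ⁻¹ᵁ CohB1.genLocus N s := by
    rw [h3]
    trivial
  exact h4

omit [C.Over (Spec (CommRingCat.of k))] [IsProper (C ↘ (Spec (CommRingCat.of k)))] in
theorem restr_iso (q : C ⟶ CohB1.ProjSpace 1 k) (hq : I.subschemeι ≫ q = e.hom) (m : ℤ) :
    Nonempty ((Scheme.Modules.pullback I.subschemeι).obj
      ((Scheme.Modules.pullback q).obj (Twist.twistProjSpace 1 k m)) ≅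
      (Scheme.Modules.pullback e.hom).obj (Twist.twistProjSpace 1 k m)) :=
  ⟨(Scheme.Modules.pullbackComp I.subschemeι q).app _ ≪≫ (Scheme.Modules.pullbackCongr hq).app _⟩

/-- `O(-a) ⊗ O(a) ≅ O` after pull back. -/
theorem tensor_unit {X : Scheme.{u}} (q : X ⟶ CohB1.ProjSpace 1 k) {a b : ℤ} (hab : a + b = 0) :
    Nonempty (CohB1.tensorMod ((Scheme.Modules.pullback q).obj (Twist.twistProjSpace 1 k a))
      ((Scheme.Modules.pullback q).obj (Twist.twistProjSpace 1 k b)) ≅ Coh.structureModule X) := by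
  obtain ⟨e1⟩ := tensor_p1 k q (a := a) (b := b) ⟨Iso.refl _⟩ ⟨Iso.refl _⟩
  rw [hab] at e1
  obtain ⟨e0⟩ := S10962.nonempty_twist_zero k 1
  exact ⟨e1 ≪≫ (Scheme.Modules.pullback q).mapIso e0 ≪≫ PerfB.TensUnit.pullbackUnit q⟩

attribute [local instance] CurvesC.LinMod.linearModules in
include hI he in
/-- If `w` represents the dual of `H^1`, `w|_D = O(a)` and `a + c = -2`, then `w ≅ q^* O(a)` for every retraction
`q : C ⟶ P¹`. -/
theorem iso_of_dual {a c : ℤ} (hc0 : c < 0) (hac : a + c = -2)
    (hc : Nonempty ((Scheme.Modules.pullback I.subschemeι).obj (ClSub.idealMod I) ≅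
      (Scheme.Modules.pullback e.hom).obj (Twist.twistProjSpace 1 k c)))
    (q : C ⟶ CohB1.ProjSpace 1 k) (hq : I.subschemeι ≫ q = e.hom)
    {w : C.Modules} (hw : PicF.IsInvertible w)
    (ha : Nonempty ((Scheme.Modules.pullback I.subschemeι).obj w ≅
      (Scheme.Modules.pullback e.hom).obj (Twist.twistProjSpace 1 k a)))
    (t : CurvesC.HV C w 1 →ₗ[k] k)
    (hdual : ∀ F : C.Modules, Coh.IsQCoh F →
      Function.Bijective (fun φ : F ⟶ w => t ∘ₗ CurvesC.HV.map k φ 1)) :
    Nonempty (w ≅ (Scheme.Modules.pullback q).obj (Twist.twistProjSpace 1 k a)) := by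
  have hL : PicF.IsInvertible ((Scheme.Modules.pullback q).obj (Twist.twistProjSpace 1 k a)) :=
    RibP1.isInvertible_pull k q a
  have hL' : PicF.IsInvertible ((Scheme.Modules.pullback q).obj (Twist.twistProjSpace 1 k (-a))) :=
    RibP1.isInvertible_pull k q (-a)
  have hLr := restr_iso k e q hq a (I := I)
  have hLr' := restr_iso k e q hq (-a) (I := I)
  obtain ⟨eu⟩ := tensor_unit k q (a := -a) (b := a) (by omega)
  obtain ⟨eu'⟩ := tensor_unit k q (a := a) (b := -a) (by omega)
  generalize hLdef : (Scheme.Modules.pullback q).obj (Twist.twistProjSpace 1 k a) = L at *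
  generalize hLdef' : (Scheme.Modules.pullback q).obj (Twist.twistProjSpace 1 k (-a)) = L' at *
  -- `H^1(L) ≠ 0`
  have h1 : ¬ Van C L 1 := by
    intro hv
    have hs : Function.Surjective
        (((Scheme.Modules.pullbackPushforwardAdjunction I.subschemeι).unit.app L).app ⊤) := by
      have : IsIso (I.subschemeι ≫ q) := by rw [hq]; infer_instance
      subst hLdef
      exact surjective_unit_retract I.subschemeι q _
    have h2 : Van C (CohB1.tensorMod L (ClSub.idealMod I)) 1 := by
      rw [← SecLift.toRestr_eq_unit (P1Deg.hasBases hL) I] at hs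
      exact not_van_one k (RestrSeq.restrSeq_shortExact (P1Deg.hasBases hL) I) hs hv
    have h3 := hd_of_van k h2
    rw [(tensor_ideal k hI e he hL hLr hc 1).1] at h3
    have h4 := hd_twist_one k (a + c) (by omega)
    omega
  -- a nonzero map `L ⟶ w`
  obtain ⟨φ, hφ⟩ : ∃ φ : L ⟶ w, φ ≠ 0 := by
    by_contra hcon
    push Not at hcon
    apply h1
    have hb := hdual L (Ega2.QCohLocal.isQCoh_of_isInvertible hL)
    have h2 : ∀ x : CurvesC.HV C L 1, x = 0 := fun x => by
      rw [← Module.forall_dual_apply_eq_zero_iff k]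
      intro f
      obtain ⟨φ, hφ⟩ := hb.2 f
      rw [← hφ]
      change t (CurvesC.HV.map k φ 1 x) = 0
      rw [hcon φ, CurvesC.HV.map_zero, LinearMap.zero_apply, map_zero]
    exact ⟨fun x y => (h2 x).trans (h2 y).symm⟩
  have h5 : RestrSeq.tensMap L' φ ≠ 0 := fun h => hφ (eq_zero_of_tensMap (A := L) eu' φ h)
  have h6 : eu.inv ≫ RestrSeq.tensMap L' φ ≠ 0 := fun h => h5 (by
    rw [← cancel_epi eu.inv, h, comp_zero])
  have hN : PicF.IsInvertible (CohB1.tensorMod L' w) := Fdesc.LocGen.isInvertible_tensorMod hL' hw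
  have hNr : Nonempty ((Scheme.Modules.pullback I.subschemeι).obj (CohB1.tensorMod L' w) ≅
      (Scheme.Modules.pullback e.hom).obj (Twist.twistProjSpace 1 k 0)) := by
    obtain ⟨e1⟩ := tensor_p1 k e.hom hLr' ha
    rw [neg_add_cancel] at e1
    exact ⟨Ega3B.PullTensor.pullTensorIso I.subschemeι hL' hw ≪≫ e1⟩
  have h7 := isIso_of_ne_zero k hI e he hN hc0 hNr hc _ h6
  -- conclude
  exact ⟨(lunit w).symm ≪≫ mapTIso eu'.symm (Iso.refl w) ≪≫ assoc L L' w ≪≫
    mapTIso (Iso.refl L) (asIso (eu.inv ≫ RestrSeq.tensMap L' φ)).symm ≪≫ runit L⟩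

end Curve

end K932.RibSplit
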