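import Groth.Agent.Ribbon.K932.SecLift
import Groth.Agent.VarietyB.HHPush
import Groth.Agent.CurvesC.EulerHV
import Groth.Agent.S0002

/-!
# Dimensions of cohomology groups, in sealed form

`hd k X M n = dim H^n(X, M)`, `Fin k X M n`, `Van X M n`.  These wrappers keep the instances on the
cohomology groups out of the statements.
-/

set_option autoImplicit false
universe u
open CategoryTheory CategoryTheory.Limits AlgebraicGeometry Opposite TopologicalSpace

namespace K932.Hdim

open Groth.Agent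

section

variable (k : Type u) [Field k] (X : Scheme.{u}) [X.Over (Spec (CommRingCat.of k))]

/-- `dim H^n(X, M)` -/
noncomputable def hd (M : X.Modules) (n : ℕ) : ℕ := Module.finrank k (Coh.HH X M n)

/-- `H^n(X, M)` is finite-dimensional. -/
def Fin (M : X.Modules) (n : ℕ) : Prop := Module.Finite k (Coh.HH X M n)

end

/-- `H^n(X, M) = 0` -/
def Van (X : Scheme.{u}) (M : X.Modules) (n : ℕ) : Prop := Subsingleton (Coh.HH X M n)

variable (k : Type u) [Field k] {X : Scheme.{u}} [X.Over (Spec (CommRingCat.of k))]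

theorem hd_and_fin_congr {M N : X.Modules} (e : M ≅ N) (n : ℕ) :
    hd k X M n = hd k X N n ∧ (Fin k X M n → Fin k X N n) := by
  let f := VarietyA.EulerLES.equivA k e n
  refine ⟨f.finrank_eq, fun h => ?_⟩
  have h' : Module.Finite k (Coh.HH X M n) := h
  exact Module.Finite.equiv f

theorem hd_congr {M N : X.Modules} (e : M ≅ N) (n : ℕ) : hd k X M n = hd k X N n :=
  (hd_and_fin_congr k e n).1

theorem fin_congr {M N : X.Modules} (e : M ≅ N) {n : ℕ} (h : Fin k X M n) : Fin k X N n :=
  (hd_and_fin_congr k e n).2 h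

omit [X.Over (Spec (CommRingCat.of k))] in
theorem van_congr {X : Scheme.{u}} {M N : X.Modules} (e : M ≅ N) {n : ℕ} (h : Van X M n) : Van X N n :=
  have : Subsingleton (Coh.HH X M n) := h
  (VarietyA.EulerLES.equivΓ e n).symm.toEquiv.subsingleton

theorem push_aux {X' : Scheme.{u}} [X'.Over (Spec (CommRingCat.of k))] (f : X' ⟶ X)
    (hf : f ≫ (X ↘ Spec (CommRingCat.of k)) = X' ↘ Spec (CommRingCat.of k)) [IsAffineHom f]
    (M : X'.Modules) (hM : Coh.IsQCoh M) (n : ℕ) :
    hd k X ((Scheme.Modules.pushforward f).obj M) n = hd k X' M n ∧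
      (Fin k X' M n → Fin k X ((Scheme.Modules.pushforward f).obj M) n) ∧
      (Van X' M n → Van X ((Scheme.Modules.pushforward f).obj M) n) := by
  obtain ⟨e⟩ := VarietyB.HHPush.exists_linearEquiv f k hf M hM n
  refine ⟨e.finrank_eq, fun h => ?_, fun h => ?_⟩
  · have h' : Module.Finite k (Coh.HH X' M n) := h
    exact Module.Finite.equiv e.symm
  · have h' : Subsingleton (Coh.HH X' M n) := h
    exact e.toEquiv.subsingleton

theorem hd_push {X' : Scheme.{u}} [X'.Over (Spec (CommRingCat.of k))] (f : X' ⟶ X)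
    (hf : f ≫ (X ↘ Spec (CommRingCat.of k)) = X' ↘ Spec (CommRingCat.of k)) [IsAffineHom f]
    (M : X'.Modules) (hM : Coh.IsQCoh M) (n : ℕ) :
    hd k X ((Scheme.Modules.pushforward f).obj M) n = hd k X' M n := (push_aux k f hf M hM n).1

theorem fin_push {X' : Scheme.{u}} [X'.Over (Spec (CommRingCat.of k))] (f : X' ⟶ X)
    (hf : f ≫ (X ↘ Spec (CommRingCat.of k)) = X' ↘ Spec (CommRingCat.of k)) [IsAffineHom f]
    (M : X'.Modules) (hM : Coh.IsQCoh M) {n : ℕ} (h : Fin k X' M n) :
    Fin k X ((Scheme.Modules.pushforward f).obj M) n := (push_aux k f hf M hM n).2.1 h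

theorem van_push {X' : Scheme.{u}} [X'.Over (Spec (CommRingCat.of k))] (f : X' ⟶ X)
    (hf : f ≫ (X ↘ Spec (CommRingCat.of k)) = X' ↘ Spec (CommRingCat.of k)) [IsAffineHom f]
    (M : X'.Modules) (hM : Coh.IsQCoh M) {n : ℕ} (h : Van X' M n) :
    Van X ((Scheme.Modules.pushforward f).obj M) n := (push_aux k f hf M hM n).2.2 h

theorem fin_of_isCoh [IsProper (X ↘ (Spec (CommRingCat.of k)))] {M : X.Modules} (hM : Coh.IsCoh M) (n : ℕ) :
    Fin k X M n := S0002.result k X M hM n

theorem hd_of_van {M : X.Modules} {n : ℕ} (h : Van X M n) : hd k X M n = 0 :=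
  have : Subsingleton (Coh.HH X M n) := h
  Module.finrank_zero_of_subsingleton

theorem van_of_hd {M : X.Modules} {n : ℕ} (hf : Fin k X M n) (h : hd k X M n = 0) : Van X M n :=
  have : Module.Finite k (Coh.HH X M n) := hf
  Module.finrank_zero_iff.mp h

theorem fin_of_van {M : X.Modules} {n : ℕ} (h : Van X M n) : Fin k X M n :=
  have : Subsingleton (Coh.HH X M n) := h
  Module.Finite.of_finite

theorem euler_eq [IsProper (X ↘ (Spec (CommRingCat.of k)))] (hdim : topologicalKrullDim X ≤ 1)
    (M : X.Modules) : Curv2.euler k X M = hd k X M 0 - hd k X M 1 :=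
  CurvesC.EulerHV.euler_eq k X hdim M

theorem fin_and_le {A B D : X.Modules} {f : A ⟶ B} {g : B ⟶ D} {w : f ≫ g = 0}
    (hS : (ShortComplex.mk f g w).ShortExact) (h0 : Van X A 0) (hfin : Fin k X D 0) :
    Fin k X B 0 ∧ hd k X B 0 ≤ hd k X D 0 :=
  SecLift.finrank_le k (ShortComplex.mk f g w) hS h0 hfin

theorem exists_lift {A B D : X.Modules} {f : A ⟶ B} {g : B ⟶ D} {w : f ≫ g = 0}
    (hS : (ShortComplex.mk f g w).ShortExact) (h0 : Van X A 0) (hfin : Fin k X D 0)
    (heq : hd k X B 0 = hd k X D 0) (s : Γ(D, ⊤)) : ∃ t : Γ(B, ⊤), g.app ⊤ t = s :=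
  SecLift.surjective_of_finrank k (ShortComplex.mk f g w) hS h0 hfin heq s

theorem surjective_unit {E : X.Modules} (hE : VarietyB.TensCoh.HasBases E) (D : X.IdealSheafData)
    (h0 : Van X (CohB1.tensorMod E (ClSub.idealMod D)) 0)
    (hfin : Fin k X ((Scheme.Modules.pushforward D.subschemeι).obj
      ((Scheme.Modules.pullback D.subschemeι).obj E)) 0)
    (heq : hd k X E 0 = hd k X ((Scheme.Modules.pushforward D.subschemeι).obj
        ((Scheme.Modules.pullback D.subschemeι).obj E)) 0) :
    Function.Surjective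
      (((Scheme.Modules.pullbackPushforwardAdjunction D.subschemeι).unit.app E).app ⊤) :=
  SecLift.surjective_unit hE D k h0 hfin heq

theorem hd_structure_pos [Nonempty X] (hfin : Fin k X (Coh.structureModule X) 0) :
    0 < hd k X (Coh.structureModule X) 0 := by
  have hfin' : Module.Finite k (Coh.HH X (Coh.structureModule X) 0) := hfin
  have h4 : Nontrivial Γ(X, ⊤) := by
    obtain ⟨x⟩ : Nonempty X := inferInstance
    have : Nonempty (⊤ : X.Opens) := ⟨⟨x, trivial⟩⟩
    infer_instance
  have h5 : Nontrivial Γ(Coh.structureModule X, ⊤) := h4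
  have : Nontrivial (Coh.HH X (Coh.structureModule X) 0) :=
    (CurvesB.HZero.equivAdd (Coh.structureModule X)).toEquiv.nontrivial
  exact Module.finrank_pos

end K932.Hdim
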