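import Groth.Agent.Dix.Cast2
import Groth.Agent.S10962
import Groth.Agent.Fdesc.LocGenGlue
import Groth.Agent.VarietyB.GlobGen
import Groth.Agent.Ega2.Tens
import Groth.Agent.CohqB.ProjLift2

/-!
# `O(m)` on the projective line is globally generated for `m ≥ 0`
-/

set_option autoImplicit false
universe u
open CategoryTheory CategoryTheory.Limits AlgebraicGeometry Opposite TopologicalSpace

namespace K932.P1Gen

open Groth.Agent

variable (k : Type u) [Field k]

theorem nonempty_pow (m : ℕ) : Nonempty (CohB1.tensorPow (Twist.twistProjSpace 1 k 1) m ≅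
    Twist.twistProjSpace 1 k (m : ℤ)) := by
  induction m with
  | zero =>
    obtain ⟨e⟩ := S10962.nonempty_twist_zero k 1
    exact ⟨e.symm⟩
  | succ m ih =>
    obtain ⟨e⟩ := ih
    obtain ⟨e'⟩ := S10962.nonempty_tensor k 1 (m : ℤ) 1
    exact ⟨Ega2.Tens.mapTIso e (Iso.refl _) ≪≫ e'⟩

/-- the twists `O(m)`, `m ≥ 0`, are generated by sections -/
theorem exists_genLocus (m : ℕ) (x : CohB1.ProjSpace 1 k) :
    ∃ s : Coh.structureModule (CohB1.ProjSpace 1 k) ⟶ Twist.twistProjSpace 1 k (m : ℤ),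
      x ∈ CohB1.genLocus _ s := by
  obtain ⟨e⟩ := nonempty_pow k m
  cases m with
  | zero =>
    refine ⟨e.hom, ?_⟩
    unfold CohB1.genLocus
    refine Opens.mem_sSup.mpr ⟨⊤, ?_, trivial⟩
    change IsIso ((Scheme.Modules.restrictFunctor _).map e.hom)
    infer_instance
  | succ m =>
    obtain ⟨T, hT, -⟩ := Dix.Cast2.wp2_coords k
    obtain ⟨i, hi⟩ := hT x
    refine ⟨Fdesc.LocGen.powHom (Fdesc.LocGen.homOf (T i)) (m + 1) ≫ e.hom, ?_⟩
    rw [CohqB.ProjLift.genLocus_comp_iso,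
      Fdesc.LocGen.genLocus_powHom (S10962.isInvertible_twist k 1 1)]
    exact hi

/-- line bundles of degree `m ≥ 0` on a scheme isomorphic to the projective line are generated by sections -/
theorem exists_genLocus_of_iso {X : Scheme.{u}} (e : X ≅ CohB1.ProjSpace 1 k) (m : ℕ) {N : X.Modules}
    (hN : Nonempty (N ≅ (Scheme.Modules.pullback e.hom).obj (Twist.twistProjSpace 1 k (m : ℤ)))) (x : X) :
    ∃ s : Coh.structureModule X ⟶ N, x ∈ CohB1.genLocus _ s := by
  obtain ⟨ψ⟩ := hN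
  obtain ⟨s, hs⟩ := exists_genLocus k m (e.hom x)
  refine ⟨Fdesc.LocGen.pullHom e.hom s ≫ ψ.inv, ?_⟩
  have h1 := CohqB.ProjLift.genLocus_comp_iso ψ.symm (Fdesc.LocGen.pullHom e.hom s)
  rw [Iso.symm_hom] at h1
  rw [h1, Ega1.AmpFam.genLocus_pullHom e.hom (S10962.isInvertible_twist k 1 (m : ℤ))]
  exact hs

end K932.P1Gen
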