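import Groth.Agent.Ribbon.K932.RibLocal
import Groth.Agent.CalgB.CMPoly

/-!
# Ribbons on integral curves are Cohen–Macaulay
-/

set_option autoImplicit false
universe u
open CategoryTheory CategoryTheory.Limits AlgebraicGeometry Opposite TopologicalSpace
open RingTheory.Sequence

namespace K932.RibCM

open Groth.Agent K932.RibLocal

section Alg

variable {R : Type u} [CommRing R]

theorem sq_zero {ε : R} (hε : ∀ a, a * ε = 0 ↔ a ∈ Ideal.span {ε}) : ε * ε = 0 :=
  (hε ε).mpr (Ideal.mem_span_singleton_self ε)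

/-- elements outside `(ε)` are regular -/
theorem regular {ε : R} (hε : ∀ a, a * ε = 0 ↔ a ∈ Ideal.span {ε}) (hp : (Ideal.span {ε}).IsPrime)
    {t : R} (ht : t ∉ Ideal.span {ε}) {a : R} (h : t * a = 0) : a = 0 := by
  have h1 : a ∈ Ideal.span {ε} := by
    have h2 : t * a ∈ Ideal.span {ε} := by rw [h]; exact Ideal.zero_mem _
    exact (hp.mem_or_mem h2).resolve_left ht
  obtain ⟨b, rfl⟩ := Ideal.mem_span_singleton'.mp h1
  have h3 : t * b ∈ Ideal.span {ε} := (hε _).mp (by rw [mul_assoc]; exact h)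
  have h4 : b ∈ Ideal.span {ε} := (hp.mem_or_mem h3).resolve_left ht
  exact (hε b).mpr h4

theorem isCM [IsLocalRing R] [IsNoetherianRing R] {ε : R} (hε : ∀ a, a * ε = 0 ↔ a ∈ Ideal.span {ε})
    (hp : (Ideal.span {ε}).IsPrime) (hdim : ringKrullDim R ≤ 1) : LocCoh.IsCohenMacaulayLocalRing R := by
  by_cases h : IsLocalRing.maximalIdeal R ≤ Ideal.span {ε}
  · refine CalgB.CMPoly.isCohenMacaulayLocalRing_of_seq [] (by simp) (IsWeaklyRegular.nil R R) ?_
    have h0 : Ring.KrullDimLE 0 R := by
      rw [Ring.krullDimLE_zero_iff]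
      intro q hq
      have h1 : ε ∈ q := by
        have : ε * ε ∈ q := by rw [sq_zero hε]; exact q.zero_mem
        exact (hq.mem_or_mem this).elim id id
      have h2 : IsLocalRing.maximalIdeal R ≤ q := h.trans (by rwa [Ideal.span_singleton_le_iff_mem])
      have h3 : q = IsLocalRing.maximalIdeal R :=
        le_antisymm (IsLocalRing.le_maximalIdeal hq.ne_top) h2
      rw [h3]
      infer_instance
    exact_mod_cast (Ring.krullDimLE_iff.mp h0)
  · obtain ⟨t, htm, ht⟩ := Set.not_subset.mp h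
    refine CalgB.CMPoly.isCohenMacaulayLocalRing_of_seq [t] (by simpa using htm) ?_ (by simpa using hdim)
    rw [isWeaklyRegular_singleton_iff]
    intro a b hab
    have h1 : t * (a - b) = 0 := by
      rw [mul_sub, sub_eq_zero]
      exact hab
    exact sub_eq_zero.mp (regular hε hp ht h1)

variable {A : Type u} [CommRing A] [Algebra A R] (p : Ideal A) [p.IsPrime] [IsLocalization.AtPrime R p]

include p in
theorem loc_ann {ε : A} (hε : ∀ a, a * ε = 0 ↔ a ∈ Ideal.span {ε}) (a : R) :
    a * algebraMap A R ε = 0 ↔ a ∈ Ideal.span {algebraMap A R ε} := by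
  constructor
  · intro h
    obtain ⟨⟨b, s⟩, hb⟩ := IsLocalization.surj p.primeCompl a
    have h1 : algebraMap A R (b * ε) = 0 := by
      rw [map_mul]
      change a * algebraMap A R s = algebraMap A R b at hb
      rw [← hb, mul_right_comm, h, zero_mul]
    obtain ⟨u, hu⟩ := (IsLocalization.map_eq_zero_iff p.primeCompl R _).mp h1
    have h2 : (u : A) * b ∈ Ideal.span {ε} := (hε _).mp (by rw [mul_assoc]; exact hu)
    obtain ⟨c, hc⟩ := Ideal.mem_span_singleton'.mp h2
    have h3 : algebraMap A R u * algebraMap A R s * a = algebraMap A R c * algebraMap A R ε := by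
      change a * algebraMap A R s = algebraMap A R b at hb
      rw [← map_mul (algebraMap A R) c, hc, map_mul, ← hb]
      ring
    have hus : IsUnit (algebraMap A R u * algebraMap A R s) := by
      rw [← map_mul]
      exact IsLocalization.map_units R (u * s)
    obtain ⟨v, hv⟩ := hus.exists_left_inv
    rw [Ideal.mem_span_singleton']
    refine ⟨v * algebraMap A R c, ?_⟩
    rw [mul_assoc, ← h3, ← mul_assoc, hv, one_mul]
  · intro h
    obtain ⟨c, rfl⟩ := Ideal.mem_span_singleton'.mp h
    rw [mul_assoc, ← map_mul, sq_zero hε, map_zero, mul_zero]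

include p in
theorem loc_prime {ε : A} (hε : ∀ a, a * ε = 0 ↔ a ∈ Ideal.span {ε}) (hp : (Ideal.span {ε}).IsPrime) :
    (Ideal.span {algebraMap A R ε}).IsPrime := by
  have h1 : ε ∈ p := by
    have : ε * ε ∈ p := by rw [sq_zero hε]; exact p.zero_mem
    exact (Ideal.IsPrime.mem_or_mem inferInstance this).elim id id
  have h2 : Disjoint (p.primeCompl : Set A) (Ideal.span {ε} : Ideal A) := by
    rw [Set.disjoint_left]
    intro a ha ha'
    exact ha ((Ideal.span_singleton_le_iff_mem _).mpr h1 ha')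
  have h3 := IsLocalization.isPrime_of_isPrime_disjoint p.primeCompl R _ hp h2
  rwa [Ideal.map_span, Set.image_singleton] at h3

include p in
theorem isCM_loc [IsNoetherianRing A] [IsLocalRing R] {ε : A} (hε : ∀ a, a * ε = 0 ↔ a ∈ Ideal.span {ε})
    (hp : (Ideal.span {ε}).IsPrime) (hdim : ringKrullDim R ≤ 1) : LocCoh.IsCohenMacaulayLocalRing R := by
  have : IsNoetherianRing R := IsLocalization.isNoetherianRing p.primeCompl R inferInstance
  exact isCM (loc_ann p hε) (loc_prime p hε hp) hdim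

end Alg

theorem ringKrullDim_stalk_le (X : Scheme.{u}) (x : X) :
    ringKrullDim (X.presheaf.stalk x) ≤ topologicalKrullDim X := by
  rw [← PrimeSpectrum.topologicalKrullDim_eq_ringKrullDim]
  exact (X.fromSpecStalk x).isEmbedding.isInducing.topologicalKrullDim_le

variable {C : Scheme.{u}} {I : C.IdealSheafData}

/-- the ideal of an integral closed subscheme is prime on affine opens meeting it -/
theorem isPrime_ideal [IsIntegral I.subscheme] (U : C.affineOpens)
    (hU : (I.subschemeι ⁻¹ᵁ U.1 : Set I.subscheme).Nonempty) : (I.ideal U).IsPrime := by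
  have : Nonempty (I.subschemeι ⁻¹ᵁ U.1) := hU.to_subtype
  have hdom : IsDomain Γ(I.subscheme, I.subschemeι ⁻¹ᵁ U.1) := inferInstance
  rw [← I.ker_subschemeι_app U]
  exact RingHom.ker_isPrime _

theorem isCM_stalk [IsLocallyNoetherian C] (hI : I ^ 2 = ⊥) [IsIntegral I.subscheme]
    (hN : PicF.IsInvertible ((Scheme.Modules.pullback I.subschemeι).obj (ClSub.idealMod I)))
    (hdim : topologicalKrullDim C ≤ 1) (x : C) :
    LocCoh.IsCohenMacaulayLocalRing (C.presheaf.stalk x) := by
  obtain ⟨U, hxU, hU, ε, hε⟩ := exists_eps hI hN x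
  obtain ⟨h1, h2⟩ := hε U le_rfl hU
  have h3 : rs (le_refl U) ε = ε := congr($(C.presheaf.map_id _) ε)
  rw [h3] at h1 h2
  have hp : (I.ideal ⟨U, hU⟩).IsPrime := by
    refine isPrime_ideal ⟨U, hU⟩ ?_
    obtain ⟨x', rfl⟩ := SqZero.surjective_subschemeι I hI x
    exact ⟨x', hxU⟩
  have h4 : ∀ a, a * ε = 0 ↔ a ∈ Ideal.span {ε} := fun a => by rw [h2 a, h1]
  rw [h1] at hp
  have : IsNoetherianRing Γ(C, U) := IsLocallyNoetherian.component_noetherian ⟨U, hU⟩
  let := TopCat.Presheaf.algebra_section_stalk C.presheaf (⟨x, hxU⟩ : U)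
  have hloc : IsLocalization.AtPrime (C.presheaf.stalk x) (hU.primeIdealOf ⟨x, hxU⟩).asIdeal :=
    hU.isLocalization_stalk ⟨x, hxU⟩
  exact isCM_loc (hU.primeIdealOf ⟨x, hxU⟩).asIdeal h4 hp ((ringKrullDim_stalk_le C x).trans hdim)

end K932.RibCM
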