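import Groth.Agent.Ribbon.K932.RibP1
import Groth.Agent.Ribbon.K932.Hdim
import Groth.Agent.Ega3B.PullTensor

/-!
# Cohomology of line bundles on ribbons on the projective line
-/

set_option autoImplicit false
universe u
open CategoryTheory CategoryTheory.Limits AlgebraicGeometry TopologicalSpace
open Groth.Agent Groth.Agent.VarietyB

namespace K932.RibCoh

open K932.Hdim

variable (k : Type u) [Field k]

section P1

theorem hd_twist_zero (m : ℤ) (hm : -1 ≤ m) :
    (hd k (CohB1.ProjSpace 1 k) (Twist.twistProjSpace 1 k m) 0 : ℤ) = m + 1 :=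
  P1Deg.finrank_twist_zero k m hm

theorem van_twist_zero (m : ℤ) (hm : m < 0) :
    Van (CohB1.ProjSpace 1 k) (Twist.twistProjSpace 1 k m) 0 := P1Deg.subsingleton_twist_zero k m hm

theorem van_twist_one (m : ℤ) (hm : -1 ≤ m) :
    Van (CohB1.ProjSpace 1 k) (Twist.twistProjSpace 1 k m) 1 := P1Deg.subsingleton_twist_one k m hm

theorem hd_twist_one (m : ℤ) (hm : m ≤ -1) :
    (hd k (CohB1.ProjSpace 1 k) (Twist.twistProjSpace 1 k m) 1 : ℤ) = -m - 1 :=
  P1Deg.finrank_twist_one k m hm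

theorem fin_twist (m : ℤ) (n : ℕ) : Fin k (CohB1.ProjSpace 1 k) (Twist.twistProjSpace 1 k m) n := by
  have : IsProper (CohB1.ProjSpace 1 k ↘ (Spec (CommRingCat.of k))) :=
    inferInstanceAs (IsProper (CohB1.ProjSpace.toSpec 1 k))
  exact fin_of_isCoh k (P1Deg.isCoh_of_isInvertible (P1Deg.isInvertible_twist k m)) n

end P1

variable (C : Scheme.{u}) [C.Over (Spec (CommRingCat.of k))]
  (I : C.IdealSheafData) (hI : I ^ 2 = ⊥)
  (e : I.subscheme ≅ CohB1.ProjSpace 1 k)
  (he : e.hom ≫ CohB1.ProjSpace.toSpec 1 k = I.subschemeι ≫ (C ↘ (Spec (CommRingCat.of k))))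

include he in
/-- `H^n(C, ι_* G) = H^n(P¹, O(m))` -/
theorem push_p1 {m : ℤ} {G : I.subscheme.Modules}
    (hG : Nonempty (G ≅ (Scheme.Modules.pullback e.hom).obj (Twist.twistProjSpace 1 k m))) (n : ℕ) :
    hd k C ((Scheme.Modules.pushforward I.subschemeι).obj G) n =
      hd k (CohB1.ProjSpace 1 k) (Twist.twistProjSpace 1 k m) n ∧
    Fin k C ((Scheme.Modules.pushforward I.subschemeι).obj G) n ∧
    (Van (CohB1.ProjSpace 1 k) (Twist.twistProjSpace 1 k m) n →
      Van C ((Scheme.Modules.pushforward I.subschemeι).obj G) n) := by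
  obtain ⟨eG⟩ := hG
  let _ : (I.subscheme).Over (Spec (CommRingCat.of k)) :=
    ⟨I.subschemeι ≫ (C ↘ (Spec (CommRingCat.of k)))⟩
  have h1 : Coh.IsQCoh ((Scheme.Modules.pullback e.hom).obj (Twist.twistProjSpace 1 k m)) :=
    Ega2.QCohLocal.isQCoh_of_isInvertible (RibP1.isInvertible_pull k e.hom m)
  have h1' : Coh.IsQCoh G := by
    exact (PerfA.CohSerre.isCoh_of_iso eG.symm
      (P1Deg.isCoh_of_isInvertible (RibP1.isInvertible_pull k e.hom m))).1
  -- the inverse of `e` as a `k`-morphism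
  have he' : e.inv ≫ (I.subscheme ↘ (Spec (CommRingCat.of k))) = CohB1.ProjSpace.toSpec 1 k := by
    change e.inv ≫ I.subschemeι ≫ (C ↘ (Spec (CommRingCat.of k))) = _
    rw [← he, Iso.inv_hom_id_assoc]
  have eP : (Scheme.Modules.pushforward e.inv).obj (Twist.twistProjSpace 1 k m) ≅ G :=
    (Scheme.Modules.pushforward e.inv).mapIso
      ((SqKill.pushPullOfIso e.hom (Twist.twistProjSpace 1 k m)).symm ≪≫
        (Scheme.Modules.pushforward e.hom).mapIso eG.symm) ≪≫
      (Scheme.Modules.pushforwardComp e.hom e.inv).app G ≪≫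
      (Scheme.Modules.pushforwardCongr e.hom_inv_id).app G ≪≫
      (Scheme.Modules.pushforwardId I.subscheme).app G
  have hT : Coh.IsQCoh (Twist.twistProjSpace 1 k m) :=
    Ega2.QCohLocal.isQCoh_of_isInvertible (P1Deg.isInvertible_twist k m)
  refine ⟨?_, ?_, fun hv => ?_⟩
  · rw [hd_push k I.subschemeι rfl G h1', ← hd_congr k eP, hd_push k e.inv he' _ hT]
  · exact fin_push k I.subschemeι rfl G h1' (fin_congr k eP (fin_push k e.inv he' _ hT (fin_twist k m n)))
  · exact van_push k I.subschemeι rfl G h1' (van_congr eP (van_push k e.inv he' _ hT hv))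

/-- `ι^* E ⊗ ι^* F` on `P¹`. -/
theorem tensor_p1 {X : Scheme.{u}} (f : X ⟶ CohB1.ProjSpace 1 k) {a b : ℤ} {M N : X.Modules}
    (hM : Nonempty (M ≅ (Scheme.Modules.pullback f).obj (Twist.twistProjSpace 1 k a)))
    (hN : Nonempty (N ≅ (Scheme.Modules.pullback f).obj (Twist.twistProjSpace 1 k b))) :
    Nonempty (CohB1.tensorMod M N ≅ (Scheme.Modules.pullback f).obj (Twist.twistProjSpace 1 k (a + b))) := by
  obtain ⟨eM⟩ := hM
  obtain ⟨eN⟩ := hN
  obtain ⟨eT⟩ := S10962.nonempty_tensor k 1 a b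
  exact ⟨Ega2.Tens.mapTIso eM eN ≪≫
    (Ega3B.PullTensor.pullTensorIso f (P1Deg.isInvertible_twist k a) (P1Deg.isInvertible_twist k b)).symm ≪≫
    (Scheme.Modules.pullback f).mapIso eT⟩

variable {C I} in
/-- `E ⊗ I ≅ ι_* (ι^* E ⊗ ι^* I)` -/
noncomputable def tensorIdealIso {E : C.Modules} (hE : PicF.IsInvertible E) :
    CohB1.tensorMod E (ClSub.idealMod I) ≅ (Scheme.Modules.pushforward I.subschemeι).obj
      (CohB1.tensorMod ((Scheme.Modules.pullback I.subschemeι).obj E)
        ((Scheme.Modules.pullback I.subschemeι).obj (ClSub.idealMod I))) :=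
  DegPhi.tensorIso E (SqKill.pushPullIdeal I hI).symm ≪≫
    ProjForm.projIso I.subschemeι (P1Deg.hasBases hE) _

variable {C I}

include hI he in
theorem tensor_ideal {E : C.Modules} (hE : PicF.IsInvertible E) {a c : ℤ}
    (ha : Nonempty ((Scheme.Modules.pullback I.subschemeι).obj E ≅
      (Scheme.Modules.pullback e.hom).obj (Twist.twistProjSpace 1 k a)))
    (hc : Nonempty ((Scheme.Modules.pullback I.subschemeι).obj (ClSub.idealMod I) ≅
      (Scheme.Modules.pullback e.hom).obj (Twist.twistProjSpace 1 k c))) (n : ℕ) :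
    hd k C (CohB1.tensorMod E (ClSub.idealMod I)) n =
      hd k (CohB1.ProjSpace 1 k) (Twist.twistProjSpace 1 k (a + c)) n ∧
    (Van (CohB1.ProjSpace 1 k) (Twist.twistProjSpace 1 k (a + c)) n →
      Van C (CohB1.tensorMod E (ClSub.idealMod I)) n) := by
  obtain ⟨h1, -, h3⟩ := push_p1 k C I e he (tensor_p1 k e.hom ha hc) n
  exact ⟨(hd_congr k (tensorIdealIso hI hE) n).trans h1, fun h => van_congr (tensorIdealIso hI hE).symm (h3 h)⟩

include hI he in
theorem ideal_p1 {c : ℤ}
    (hc : Nonempty ((Scheme.Modules.pullback I.subschemeι).obj (ClSub.idealMod I) ≅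
      (Scheme.Modules.pullback e.hom).obj (Twist.twistProjSpace 1 k c))) (n : ℕ) :
    hd k C (ClSub.idealMod I) n = hd k (CohB1.ProjSpace 1 k) (Twist.twistProjSpace 1 k c) n ∧
    (Van (CohB1.ProjSpace 1 k) (Twist.twistProjSpace 1 k c) n → Van C (ClSub.idealMod I) n) := by
  obtain ⟨h1, -, h3⟩ := push_p1 k C I e he hc n
  exact ⟨(hd_congr k (SqKill.pushPullIdeal I hI).symm n).trans h1,
    fun h => van_congr (SqKill.pushPullIdeal I hI) (h3 h)⟩

include he in
theorem quotMod_zero : hd k C (ClSub.quotMod I) 0 = 1 ∧ Fin k C (ClSub.quotMod I) 0 := by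
  obtain ⟨h1, h2, -⟩ := push_p1 k C I e he (P1Deg.unit_pull k e) 0
  have h3 := hd_twist_zero k 0 (by omega)
  have h4 : hd k C (ClSub.quotMod I) 0 = hd k (CohB1.ProjSpace 1 k) (Twist.twistProjSpace 1 k 0) 0 := h1
  exact ⟨by omega, h2⟩

section Proper

include hI he in
theorem hd_structure_zero {c : ℤ} (hc0 : c < 0)
    (hc : Nonempty ((Scheme.Modules.pullback I.subschemeι).obj (ClSub.idealMod I) ≅
      (Scheme.Modules.pullback e.hom).obj (Twist.twistProjSpace 1 k c))) :
    hd k C (Coh.structureModule C) 0 = 1 := by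
  obtain ⟨h1, h2⟩ := quotMod_zero k e he
  have h0 : Van C (ClSub.idealMod I) 0 := (ideal_p1 k hI e he hc 0).2 (van_twist_zero k c hc0)
  have hS : (ShortComplex.mk (ClSub.idealModι I) (ClSub.toSubscheme I) (kernel.condition _)).ShortExact :=
    DegCartier.idealSeq_shortExact I
  obtain ⟨h3, h4⟩ := fin_and_le k hS h0 h2
  have : Nonempty C := by
    have := Lefpen.H717.ProjIrr.isIntegral_projSpace 1 k
    obtain ⟨x⟩ : Nonempty (CohB1.ProjSpace 1 k) := inferInstance
    exact ⟨I.subschemeι (e.inv x)⟩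
  have h5 := hd_structure_pos k h3
  have h6 : hd k C (Coh.structureModule C) 0 ≤ 1 := h4.trans h1.le
  omega

include hI he in
theorem hd_structure_one [IsProper (C ↘ (Spec (CommRingCat.of k)))] {c : ℤ} (hc0 : c < 0)
    (hc : Nonempty ((Scheme.Modules.pullback I.subschemeι).obj (ClSub.idealMod I) ≅
      (Scheme.Modules.pullback e.hom).obj (Twist.twistProjSpace 1 k c))) :
    (hd k C (Coh.structureModule C) 1 : ℤ) = - c - 1 := by
  have h1 := hd_structure_zero k hI e he hc0 hc
  have h2 := euler_eq k (RibP1.topologicalKrullDim_eq k I hI e).le (Coh.structureModule C)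
  have h3 := RibP1.euler_structure k C I hI e he hc
  rw [h3, h1] at h2
  push_cast at h2
  omega

end Proper

end K932.RibCoh
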