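import Groth.Agent.Ribbon.K932.P1Deg

/-!
# Degrees of invertible modules on ribbons on the projective line
-/

set_option autoImplicit false
universe u
open CategoryTheory CategoryTheory.Limits AlgebraicGeometry
open Groth.Agent Groth.Agent.VarietyB Groth.Agent.VarietyB.DegPhi Groth.Agent.VarietyB.TensCoh
open Groth.Agent.VarietyB.ProjForm

namespace K932.RibDeg

theorem isLocallyNoetherian (k : Type u) [Field k] (C : Scheme.{u}) [C.Over (Spec (CommRingCat.of k))]
    [IsProper (C ↘ (Spec (CommRingCat.of k)))] : IsLocallyNoetherian C :=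
  LocallyOfFiniteType.isLocallyNoetherian (C ↘ (Spec (CommRingCat.of k)))

variable (k : Type u) [Field k] (C : Scheme.{u}) [C.Over (Spec (CommRingCat.of k))] (I : C.IdealSheafData)

/-- `φ_L(ι_* G) = n` -/
theorem phi_push_p1
    (e : I.subscheme ≅ CohB1.ProjSpace 1 k)
    (he : e.hom ≫ CohB1.ProjSpace.toSpec 1 k = I.subschemeι ≫ (C ↘ (Spec (CommRingCat.of k))))
    (L : C.Modules) (hL : PicF.IsInvertible L) (n m : ℤ)
    (hLD : Nonempty ((Scheme.Modules.pullback I.subschemeι).obj L ≅
      (Scheme.Modules.pullback e.hom).obj (Twist.twistProjSpace 1 k n))) (G : I.subscheme.Modules)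
    (hG : Nonempty (G ≅ (Scheme.Modules.pullback e.hom).obj (Twist.twistProjSpace 1 k m))) :
    phi k C L 1 ((Scheme.Modules.pushforward I.subschemeι).obj G) = n := by
  let _ : (I.subscheme).Over (Spec (CommRingCat.of k)) :=
    ⟨I.subschemeι ≫ (C ↘ (Spec (CommRingCat.of k)))⟩
  have hGc : Coh.IsCoh G := by
    obtain ⟨eG⟩ := hG
    exact PerfA.CohSerre.isCoh_of_iso eG.symm
      (isCoh_of_hasBases (HasBases.pullback e.hom (P1Deg.hasBases (P1Deg.isInvertible_twist k m))))
  rw [P1Deg.phi_push' k I.subschemeι rfl (P1Deg.hasBases hL) G hGc]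
  exact P1Deg.phi_p1 k e he hLD hG

/-- `deg L = 2 n` on a ribbon. -/
theorem deg_eq [IsProper (C ↘ (Spec (CommRingCat.of k)))] (hI : I ^ 2 = ⊥)
    (e : I.subscheme ≅ CohB1.ProjSpace 1 k)
    (he : e.hom ≫ CohB1.ProjSpace.toSpec 1 k = I.subschemeι ≫ (C ↘ (Spec (CommRingCat.of k))))
    (c : ℤ)
    (hconormal : Nonempty ((Scheme.Modules.pullback I.subschemeι).obj (ClSub.idealMod I) ≅
      (Scheme.Modules.pullback e.hom).obj (Twist.twistProjSpace 1 k c)))
    (L : C.Modules) (hL : PicF.IsInvertible L) (n : ℤ)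
    (hLD : Nonempty ((Scheme.Modules.pullback I.subschemeι).obj L ≅
      (Scheme.Modules.pullback e.hom).obj (Twist.twistProjSpace 1 k n))) :
    Curv2.deg k C L 1 = 2 * n := by
  have := isLocallyNoetherian k C
  rw [← phi_unit]
  have h1 := phi_add k (P1Deg.hasBases hL) _ (DegCartier.idealSeq_shortExact I)
    (DegCartier.isCoh_idealMod I) (CurvesB.UnitCoh.isCoh_structureModule C) (DegCartier.isCoh_quotMod I)
    (n := 1)
  refine h1.trans ?_
  have h2 : phi k C L 1 (ClSub.idealMod I) = n := by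
    rw [← phi_congr k L 1 (SqKill.pushPullIdeal I hI)]
    exact phi_push_p1 k C I e he L hL n c hLD _ hconormal
  have h3 : phi k C L 1 (ClSub.quotMod I) = n :=
    phi_push_p1 k C I e he L hL n 0 hLD _ (P1Deg.unit_pull k e)
  change phi k C L 1 (ClSub.idealMod I) + phi k C L 1 (ClSub.quotMod I) = 2 * n
  rw [h2, h3]
  ring

end K932.RibDeg
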