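import Groth.Agent.Ribbon.K932.RibCoh
import Groth.Agent.Ribbon.K932.P1Gen

/-!
# Lifting sections of line bundles from `D = P¹` to the ribbon, and global generation
-/

set_option autoImplicit false
universe u
open CategoryTheory CategoryTheory.Limits AlgebraicGeometry TopologicalSpace
open Groth.Agent Groth.Agent.VarietyB

namespace K932.RibGen

open K932.Hdim K932.RibCoh
open Fdesc.LocGen (pullHom pullSec sec_pullHom homOf)

/-- Lifting a section along a morphism. -/
theorem exists_lift_section {X X' : Scheme.{u}} (i : X ⟶ X') {N' : X'.Modules}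
    (hl : Function.Surjective (((Scheme.Modules.pullbackPushforwardAdjunction i).unit.app N').app ⊤))
    (s : Coh.structureModule X ⟶ (Scheme.Modules.pullback i).obj N') :
    ∃ t : Coh.structureModule X' ⟶ N', pullHom i t = s := by
  obtain ⟨m, hm⟩ := hl (Fdesc.LocGen.sec s ⊤)
  refine ⟨homOf m, ?_⟩
  apply Fdesc.LocGen.hom_ext_sec
  have h2 := sec_pullHom i (homOf m) ⊤
  rw [Fdesc.LocGen.sec_homOf, Fdesc.LocGen.res_refl] at h2
  exact h2.trans hm

/-- Global generation of an invertible module from that of its restriction. -/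
theorem isGloballyGenerated {X X' : Scheme.{u}} (i : X ⟶ X') (hi : Function.Surjective i)
    {N' : X'.Modules} (hN' : PicF.IsInvertible N')
    (hl : Function.Surjective (((Scheme.Modules.pullbackPushforwardAdjunction i).unit.app N').app ⊤))
    (hg : ∀ x : X, ∃ s : Coh.structureModule X ⟶ (Scheme.Modules.pullback i).obj N',
      x ∈ CohB1.genLocus _ s) : Curv2.IsGloballyGenerated N' := by
  have h1 : ∀ x : X', ∃ t : Coh.structureModule X' ⟶ N', x ∈ CohB1.genLocus _ t := fun x => by
    obtain ⟨y, rfl⟩ := hi x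
    obtain ⟨s, hs⟩ := hg y
    obtain ⟨t, rfl⟩ := exists_lift_section i hl s
    refine ⟨t, ?_⟩
    rw [Ega1.AmpFam.genLocus_pullHom i hN'] at hs
    exact hs
  choose t ht using h1
  exact VarietyB.GlobGen.isGloballyGenerated_of_cover t fun x => ⟨x, ht x⟩

variable (k : Type u) [Field k] {C : Scheme.{u}} [C.Over (Spec (CommRingCat.of k))]
  {I : C.IdealSheafData} (hI : I ^ 2 = ⊥)
  (e : I.subscheme ≅ CohB1.ProjSpace 1 k)
  (he : e.hom ≫ CohB1.ProjSpace.toSpec 1 k = I.subschemeι ≫ (C ↘ (Spec (CommRingCat.of k))))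

include hI he in
/-- Sections lift if `a + c < 0` and `h^0(E) = a + 1`. -/
theorem surjective_unit {E : C.Modules} (hE : PicF.IsInvertible E) {a c : ℤ}
    (ha : Nonempty ((Scheme.Modules.pullback I.subschemeι).obj E ≅
      (Scheme.Modules.pullback e.hom).obj (Twist.twistProjSpace 1 k a)))
    (hc : Nonempty ((Scheme.Modules.pullback I.subschemeι).obj (ClSub.idealMod I) ≅
      (Scheme.Modules.pullback e.hom).obj (Twist.twistProjSpace 1 k c))) (ha0 : -1 ≤ a) (hac : a + c < 0)
    (hE0 : (hd k C E 0 : ℤ) = a + 1) :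
    Function.Surjective
      (((Scheme.Modules.pullbackPushforwardAdjunction I.subschemeι).unit.app E).app ⊤) := by
  obtain ⟨h1, h2, -⟩ := push_p1 k C I e he ha 0
  have h3 := hd_twist_zero k a ha0
  refine Hdim.surjective_unit k (P1Deg.hasBases hE) I
    ((tensor_ideal k hI e he hE ha hc 0).2 (van_twist_zero k _ hac)) h2 ?_
  rw [h1]
  omega

end K932.RibGen
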