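import Groth.Agent.Ribbon.K932.SqKill
import Groth.Agent.VarietyB.TensCoh
import Groth.Agent.Ega2.QCohLocal

/-!
# Local structure of a ribbon

If `I² = 0` and the conormal module `ι^* I` is invertible, then locally `I = (ε)` with `Ann ε = I`.
-/

set_option autoImplicit false
universe u
open CategoryTheory CategoryTheory.Limits AlgebraicGeometry Opposite TopologicalSpace

namespace K932.RibLocal

open Groth.Agent Groth.Agent.CohqA.IdealMod

variable {C : Scheme.{u}} (I : C.IdealSheafData)

theorem exists_preimage (W : I.subscheme.Opens) : ∃ U : C.Opens, I.subschemeι ⁻¹ᵁ U = W := by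
  obtain ⟨t, ht, h⟩ := (I.subschemeι.isClosedEmbedding.isInducing.isOpen_iff).mp W.isOpen
  exact ⟨⟨t, ht⟩, SetLike.coe_injective h⟩

/-- restriction of functions -/
noncomputable abbrev rs {U V : C.Opens} (h : V ≤ U) (a : Γ(C, U)) : Γ(C, V) :=
  (C.presheaf.map (homOfLE h).op).hom a

/-- the local generator condition -/
def IsEps {U : C.Opens} (ε : Γ(C, U)) : Prop :=
  ∀ (V : C.Opens) (h : V ≤ U) (hV : IsAffineOpen V),
    I.ideal ⟨V, hV⟩ = Ideal.span {rs h ε} ∧
    ∀ a : Γ(C, V), a * rs h ε = 0 ↔ a ∈ I.ideal ⟨V, hV⟩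

variable {I}

/-- The unit isomorphism `I ≅ ι_* ι^* I`. -/
noncomputable def κ (hI : I ^ 2 = ⊥) : ClSub.idealMod I ≅
    (Scheme.Modules.pushforward I.subschemeι).obj
      ((Scheme.Modules.pullback I.subschemeι).obj (ClSub.idealMod I)) :=
  (SqKill.pushPullIdeal I hI).symm

/-- the elements of the ideal as sections of the conormal module -/
noncomputable def κs (hI : I ^ 2 = ⊥) (V : C.Opens) :
    Γ(ClSub.idealMod I, V) →+ Γ((Scheme.Modules.pullback I.subschemeι).obj (ClSub.idealMod I),
      I.subschemeι ⁻¹ᵁ V) := ((κ hI).hom.app V).hom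

theorem κs_bijective (hI : I ^ 2 = ⊥) (V : C.Opens) : Function.Bijective (κs hI V) :=
  (ConcreteCategory.isIso_iff_bijective ((κ hI).hom.app V)).mp inferInstance

theorem κs_smul (hI : I ^ 2 = ⊥) (V : C.Opens) (a : Γ(C, V)) (m : Γ(ClSub.idealMod I, V)) :
    κs hI V (a • m) = (I.subschemeι.app V).hom a • κs hI V m :=
  (κ hI).hom.app_smul a m

theorem κs_res (hI : I ^ 2 = ⊥) {U V : C.Opens} (h : V ≤ U) (m : Γ(ClSub.idealMod I, U)) :
    κs hI V ((ClSub.idealMod I).presheaf.map (homOfLE h).op m) =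
      ((Scheme.Modules.pullback I.subschemeι).obj (ClSub.idealMod I)).presheaf.map
        (homOfLE (I.subschemeι.preimage_mono h)).op (κs hI U m) :=
  congr($((κ hI).hom.mapPresheaf.naturality (homOfLE h).op) m)

theorem idealModLin_res {U V : C.Opens} (h : V ≤ U) (m : Γ(ClSub.idealMod I, U)) :
    idealModLin I V ((ClSub.idealMod I).presheaf.map (homOfLE h).op m) = rs h (idealModLin I U m) :=
  congr($((ClSub.idealModι I).mapPresheaf.naturality (homOfLE h).op) m)

theorem exists_eps (hI : I ^ 2 = ⊥)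
    (hN : PicF.IsInvertible ((Scheme.Modules.pullback I.subschemeι).obj (ClSub.idealMod I))) (x : C) :
    ∃ (U : C.Opens) (_ : x ∈ U) (_ : IsAffineOpen U) (ε : Γ(C, U)), IsEps I ε := by
  obtain ⟨x', rfl⟩ := SqZero.surjective_subschemeι I hI x
  obtain ⟨W, hx', e, he⟩ := VarietyB.TensLoc.exists_isBasis
    (Ega2.QCohLocal.isFinLocFreeOfRank_one_iff.mpr hN) x'
  obtain ⟨U₀, rfl⟩ := exists_preimage I W
  obtain ⟨U, hU, hxU, hUU⟩ := exists_isAffineOpen_mem_and_subset (X := C) (x := I.subschemeι x') (U := U₀) hx'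
  obtain ⟨m₀, hm₀⟩ := (κs_bijective hI U).2 (VarietyB.TensLoc.res _ (I.subschemeι.preimage_mono hUU) (e 0))
  refine ⟨U, hxU, hU, idealModLin I U m₀, fun V h hV => ?_⟩
  let m : Γ(ClSub.idealMod I, V) := (ClSub.idealMod I).presheaf.map (homOfLE h).op m₀
  have hm : idealModLin I V m = rs h (idealModLin I U m₀) := idealModLin_res h m₀
  have hκm : κs hI V m = VarietyB.TensLoc.res _ (I.subschemeι.preimage_mono (h.trans hUU)) (e 0) := by
    rw [κs_res, hm₀]
    exact VarietyB.TensLoc.res_res _ _ _ _
  have key : ∀ a : Γ(C, V), κs hI V (a • m) = (I.subschemeι.app V).hom a •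
      VarietyB.TensLoc.res _ (I.subschemeι.preimage_mono (h.trans hUU)) (e 0) := fun a => by
    rw [κs_smul, hκm]
  have hb := he (I.subschemeι ⁻¹ᵁ V) (I.subschemeι.preimage_mono (h.trans hUU))
  have hsm : ∀ a : Γ(C, V), idealModLin I V (a • m) = a * rs h (idealModLin I U m₀) := fun a => by
    rw [← hm]
    exact map_smul (idealModLin I V) a m
  constructor
  · apply le_antisymm
    · intro s hs
      have h1 : s ∈ LinearMap.range (idealModLin I V) := by
        rw [range_idealModLin I ⟨V, hV⟩]
        exact hs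
      obtain ⟨y, rfl⟩ := h1
      obtain ⟨b, hb'⟩ := hb.2 (κs hI V y)
      obtain ⟨a, ha⟩ := I.subschemeι_app_surjective ⟨V, hV⟩ (b 0)
      have h2 : y = a • m := by
        apply (κs_bijective hI V).1
        rw [key, ← hb']
        simp only [Fin.sum_univ_one, Fin.isValue]
        congr 1
        exact ha.symm
      rw [h2, hsm]
      exact Ideal.mul_mem_left _ _ (Ideal.mem_span_singleton_self _)
    · rw [Ideal.span_singleton_le_iff_mem, ← hm, ← range_idealModLin I ⟨V, hV⟩]
      exact ⟨m, rfl⟩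
  · intro a
    rw [← hsm, ← I.ker_subschemeι_app ⟨V, hV⟩, RingHom.mem_ker]
    constructor
    · intro h1
      have h2 : a • m = 0 := idealModLin_injective I V (by rw [h1, map_zero])
      have h3 := key a
      rw [h2, map_zero] at h3
      have h4 : (fun _ : Fin 1 => (I.subschemeι.app V).hom a) = 0 := by
        apply hb.1
        simp only [Fin.sum_univ_one, Fin.isValue, Pi.zero_apply, zero_smul]
        exact h3.symm
      exact congrFun h4 0
    · intro h1
      have h2 : a • m = 0 := by
        apply (κs_bijective hI V).1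
        rw [key, map_zero]
        have h5 : (I.subschemeι.app V).hom a = 0 := h1
        rw [h5, zero_smul]
      rw [h2, map_zero]

end K932.RibLocal
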