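import Groth.Agent.Ribbon.K932.RibCM
import Groth.Agent.Ribbon.K932.RibDeg
import Groth.Agent.Lefpen.H717.ProjIrr
import Groth.Agent.S10829
import Groth.Agent.Fdesc.LocGenPullback
import Groth.Agent.Ega2.VeryAmpleAmple

/-!
# Ribbons on the projective line: dimension, Cohen–Macaulayness, Euler characteristic
-/

set_option autoImplicit false
universe u
open CategoryTheory CategoryTheory.Limits AlgebraicGeometry TopologicalSpace
open Groth.Agent Groth.Agent.VarietyB Groth.Agent.VarietyB.DegPhi

namespace K932.RibP1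

section Top

variable (k : Type u) [Field k] {C : Scheme.{u}} (I : C.IdealSheafData) (hI : I ^ 2 = ⊥)
  (e : I.subscheme ≅ CohB1.ProjSpace 1 k)

include e in
theorem isIntegral_subscheme : IsIntegral I.subscheme := by
  have : IsIntegral (CohB1.ProjSpace 1 k) := Lefpen.H717.ProjIrr.isIntegral_projSpace 1 k
  have : Nonempty I.subscheme := by
    obtain ⟨x⟩ : Nonempty (CohB1.ProjSpace 1 k) := inferInstance
    exact ⟨e.inv x⟩
  exact isIntegral_of_isOpenImmersion e.hom

include hI in
theorem isHomeomorph_ι : IsHomeomorph I.subschemeι :=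
  isHomeomorph_iff_isEmbedding_surjective.mpr
    ⟨I.subschemeι.isEmbedding, SqZero.surjective_subschemeι I hI⟩

include hI e in
theorem topologicalKrullDim_eq : topologicalKrullDim C = 1 := by
  rw [← (isHomeomorph_ι I hI).topologicalKrullDim_eq,
    (e.hom.homeomorph.isHomeomorph).topologicalKrullDim_eq, S10829.result k 1]
  rfl

include hI e in
theorem irreducibleSpace : IrreducibleSpace C := by
  have := isIntegral_subscheme k I e
  exact (isHomeomorph_ι I hI).homeomorph.surjective.irreducibleSpace (isHomeomorph_ι I hI).continuous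

include hI e in
theorem equi : ∀ Z ∈ irreducibleComponents (C : Type u), topologicalKrullDim Z = 1 := by
  intro Z hZ
  have := irreducibleSpace k I hI e
  rw [irreducibleComponents_eq_singleton] at hZ
  obtain rfl : Z = Set.univ := hZ
  rw [(Homeomorph.Set.univ C).isHomeomorph.topologicalKrullDim_eq]
  exact topologicalKrullDim_eq k I hI e

theorem isInvertible_pull {X : Scheme.{u}} (f : X ⟶ CohB1.ProjSpace 1 k) (m : ℤ) :
    PicF.IsInvertible ((Scheme.Modules.pullback f).obj (Twist.twistProjSpace 1 k m)) :=
  Fdesc.LocGen.isInvertible_pullback f (P1Deg.isInvertible_twist k m)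

theorem isInvertible_of_iso_pull {X : Scheme.{u}} (f : X ⟶ CohB1.ProjSpace 1 k) {m : ℤ} {N : X.Modules}
    (h : Nonempty (N ≅ (Scheme.Modules.pullback f).obj (Twist.twistProjSpace 1 k m))) :
    PicF.IsInvertible N :=
  Ega2.VeryAmpleAmple.isInvertible_of_iso h.some.symm (isInvertible_pull k f m)

end Top

section Euler

variable (k : Type u) [Field k] (C : Scheme.{u}) [C.Over (Spec (CommRingCat.of k))]
  [IsProper (C ↘ (Spec (CommRingCat.of k)))] (I : C.IdealSheafData) (hI : I ^ 2 = ⊥)
  (e : I.subscheme ≅ CohB1.ProjSpace 1 k)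
  (he : e.hom ≫ CohB1.ProjSpace.toSpec 1 k = I.subschemeι ≫ (C ↘ (Spec (CommRingCat.of k))))

include hI e in
theorem isCM {c : ℤ} (hconormal : Nonempty ((Scheme.Modules.pullback I.subschemeι).obj (ClSub.idealMod I) ≅
      (Scheme.Modules.pullback e.hom).obj (Twist.twistProjSpace 1 k c))) (x : C) :
    LocCoh.IsCohenMacaulayLocalRing (C.presheaf.stalk x) := by
  have := RibDeg.isLocallyNoetherian k C
  have := isIntegral_subscheme k I e
  exact RibCM.isCM_stalk hI (isInvertible_of_iso_pull k e.hom hconormal)
    (topologicalKrullDim_eq k I hI e).le x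

omit [IsProper (C ↘ (Spec (CommRingCat.of k)))] in
include he in
/-- `χ(ι_* G)` for `G` a line bundle on the projective line. -/
theorem euler_push_p1 {m : ℤ} (G : I.subscheme.Modules)
    (hG : Nonempty (G ≅ (Scheme.Modules.pullback e.hom).obj (Twist.twistProjSpace 1 k m))) :
    Curv2.euler k C ((Scheme.Modules.pushforward I.subschemeι).obj G) = m + 1 := by
  obtain ⟨eG⟩ := hG
  let _ : (I.subscheme).Over (Spec (CommRingCat.of k)) :=
    ⟨I.subschemeι ≫ (C ↘ (Spec (CommRingCat.of k)))⟩
  have h1 : Coh.IsQCoh ((Scheme.Modules.pullback e.hom).obj (Twist.twistProjSpace 1 k m)) :=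
    Ega2.QCohLocal.isQCoh_of_isInvertible (isInvertible_pull k e.hom m)
  rw [euler_congr k ((Scheme.Modules.pushforward I.subschemeι).mapIso eG),
    HHPush.euler_push I.subschemeι k rfl _ h1, ← HHPush.euler_push e.hom k he _ h1,
    euler_congr k (SqKill.pushPullOfIso e.hom (Twist.twistProjSpace 1 k m)), P1Deg.euler_twist]

include hI he in
/-- `χ(O_C) = 1 - g` for a ribbon of genus `g`, with `c = -g-1`. -/
theorem euler_structure {c : ℤ}
    (hconormal : Nonempty ((Scheme.Modules.pullback I.subschemeι).obj (ClSub.idealMod I) ≅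
      (Scheme.Modules.pullback e.hom).obj (Twist.twistProjSpace 1 k c))) :
    Curv2.euler k C (Coh.structureModule C) = c + 2 := by
  have := RibDeg.isLocallyNoetherian k C
  have h1 := S1524.result k C _ (DegCartier.idealSeq_shortExact I)
    (DegCartier.isCoh_idealMod I) (CurvesB.UnitCoh.isCoh_structureModule C) (DegCartier.isCoh_quotMod I)
  have h2 : Curv2.euler k C (ClSub.idealMod I) = c + 1 := by
    rw [← euler_congr k (SqKill.pushPullIdeal I hI)]
    exact euler_push_p1 k C I e he _ hconormal
  have h3 : Curv2.euler k C (ClSub.quotMod I) = 0 + 1 := euler_push_p1 k C I e he _ (P1Deg.unit_pull k e)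
  have h4 : Curv2.euler k C (Coh.structureModule C) =
    Curv2.euler k C (ClSub.idealMod I) + Curv2.euler k C (ClSub.quotMod I) := h1
  rw [h4, h2, h3]
  ring

end Euler

end K932.RibP1
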