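import Groth.Agent.VarietyB.RestrSeq
import Groth.Agent.VarietyA.EulerLES
import Groth.Agent.CurvesB.HZero
import Groth.Agent.Ega2.TensMon

/-!
# Lifting global sections from a closed subscheme by counting dimensions
-/

set_option autoImplicit false
universe u
open CategoryTheory CategoryTheory.Limits AlgebraicGeometry Opposite TopologicalSpace

namespace K932.SecLift

open Groth.Agent Groth.Agent.Ega2.Tens Groth.Agent.VarietyB.RestrSeq Groth.Agent.VarietyB.TensCoh

section Count

variable (k : Type u) [Field k] {X : Scheme.{u}} [X.Over (Spec (CommRingCat.of k))]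

theorem injective_mapA (S : ShortComplex X.Modules) (hS : S.ShortExact)
    (h0 : Subsingleton (Coh.HH X S.X₁ 0)) : Function.Injective (VarietyA.EulerLES.mapA k S.g 0) := by
  rw [injective_iff_map_eq_zero]
  intro x hx
  obtain ⟨y, rfl⟩ := (VarietyA.EulerLES.exactA₂ k S hS 0 x).mp hx
  rw [Subsingleton.elim y 0, map_zero]

theorem finrank_le (S : ShortComplex X.Modules) (hS : S.ShortExact)
    (h0 : Subsingleton (Coh.HH X S.X₁ 0)) (hfin : Module.Finite k (Coh.HH X S.X₃ 0)) :
    Module.Finite k (Coh.HH X S.X₂ 0) ∧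
      Module.finrank k (Coh.HH X S.X₂ 0) ≤ Module.finrank k (Coh.HH X S.X₃ 0) := by
  have hinj := injective_mapA k S hS h0
  exact ⟨Module.Finite.of_injective _ hinj, LinearMap.finrank_le_finrank_of_injective hinj⟩

theorem surjective_of_finrank (S : ShortComplex X.Modules) (hS : S.ShortExact)
    (h0 : Subsingleton (Coh.HH X S.X₁ 0)) (hfin : Module.Finite k (Coh.HH X S.X₃ 0))
    (heq : Module.finrank k (Coh.HH X S.X₂ 0) = Module.finrank k (Coh.HH X S.X₃ 0))
    (s : Γ(S.X₃, ⊤)) : ∃ t : Γ(S.X₂, ⊤), S.g.app ⊤ t = s := by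
  have hinj := injective_mapA k S hS h0
  have hfin2 : Module.Finite k (Coh.HH X S.X₂ 0) := Module.Finite.of_injective _ hinj
  have hsurj : Function.Surjective (VarietyA.EulerLES.mapA k S.g 0) :=
    (LinearMap.injective_iff_surjective_of_finrank_eq_finrank heq).mp hinj
  obtain ⟨x, hx⟩ := hsurj ((CurvesB.HZero.equivAdd S.X₃).symm s)
  refine ⟨CurvesB.HZero.equivAdd S.X₂ x, ?_⟩
  rw [← CurvesB.HZero.equivAdd_map]
  have h1 : Sheaf.H.map ((SheafOfModules.toSheaf X.ringCatSheaf).map S.g) 0 x =
    (CurvesB.HZero.equivAdd S.X₃).symm s := hx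
  rw [h1, AddEquiv.apply_symm_apply]

end Count

section Unit

variable {X : Scheme.{u}} {E : X.Modules} (hE : HasBases E) (D : X.IdealSheafData)

/-- The restriction map `E ⟶ i_* i^* E` is the unit of the adjunction. -/
theorem toRestr_eq_unit :
    toRestr hE D = (Scheme.Modules.pullbackPushforwardAdjunction D.subschemeι).unit.app E := by
  rw [← cancel_epi (runit E).hom, restr_comm₂]
  refine hom_ext _ _ fun U m (r : Γ(X, U)) => ?_
  change (tensMap E (ClSub.toSubscheme D) ≫
    (VarietyB.ProjForm.projIsoUnit D.subschemeι hE).hom).app U (tmul m (sm r)) =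
    ((runit E).hom ≫ (Scheme.Modules.pullbackPushforwardAdjunction D.subschemeι).unit.app E).app U
      (tmul m (sm r))
  have h1 : (tensMap E (ClSub.toSubscheme D)).app U (tmul m (sm r)) =
      tmul m ((ClSub.toSubscheme D).app U (sm r)) :=
    VarietyB.TensLoc.tensorBi_map_app_tmul E (ClSub.toSubscheme D) m (sm r)
  have h2 := VarietyB.ProjForm.projMor_tmul D.subschemeι E (Coh.structureModule D.subscheme) m
    (sm (D.subschemeι.app U r) : Γ(Coh.structureModule D.subscheme, D.subschemeι ⁻¹ᵁ U))
  have h3 : (runit ((Scheme.Modules.pullback D.subschemeι).obj E)).hom.app (D.subschemeι ⁻¹ᵁ U)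
      (tmul (Fdesc.LocGen.pullSec D.subschemeι m) (sm (D.subschemeι.app U r))) =
      D.subschemeι.app U r • Fdesc.LocGen.pullSec D.subschemeι m :=
    runit_hom_tmul _ _
  have h4 : (runit E).hom.app U (tmul m (sm r)) = r • m := runit_hom_tmul _ _
  have h5 := Fdesc.LocGen.pullSec_smul D.subschemeι r m
  have h6 : (tensMap E (ClSub.toSubscheme D) ≫
      (VarietyB.ProjForm.projIsoUnit D.subschemeι hE).hom).app U (tmul m (sm r)) =
      (runit ((Scheme.Modules.pullback D.subschemeι).obj E)).hom.app (D.subschemeι ⁻¹ᵁ U)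
        ((VarietyB.ProjForm.projMor D.subschemeι E (Coh.structureModule D.subscheme)).app U
          ((tensMap E (ClSub.toSubscheme D)).app U (tmul m (sm r)))) := rfl
  rw [h6, h1]
  refine (congrArg _ h2).trans (h3.trans (h5.symm.trans ?_))
  exact (congrArg (((Scheme.Modules.pullbackPushforwardAdjunction D.subschemeι).unit.app E).app U)
    h4).symm

include hE in
/-- Lifting sections of the restriction of `E` to `V(D)`, if `H^0(E ⊗ I_D) = 0` and `h^0(E) = h^0(E|_D)`. -/
theorem surjective_unit (k : Type u) [Field k] [X.Over (Spec (CommRingCat.of k))]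
    (h0 : Subsingleton (Coh.HH X (CohB1.tensorMod E (ClSub.idealMod D)) 0))
    (hfin : Module.Finite k (Coh.HH X ((Scheme.Modules.pushforward D.subschemeι).obj
      ((Scheme.Modules.pullback D.subschemeι).obj E)) 0))
    (heq : Module.finrank k (Coh.HH X E 0) = Module.finrank k (Coh.HH X
      ((Scheme.Modules.pushforward D.subschemeι).obj
        ((Scheme.Modules.pullback D.subschemeι).obj E)) 0)) :
    Function.Surjective
      (((Scheme.Modules.pullbackPushforwardAdjunction D.subschemeι).unit.app E).app ⊤) := by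
  intro s
  obtain ⟨t, ht⟩ := surjective_of_finrank k (restrSeq hE D) (restrSeq_shortExact hE D) h0 hfin heq s
  refine ⟨t, ?_⟩
  rw [← toRestr_eq_unit hE D]
  exact ht

end Unit

end K932.SecLift
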