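import Groth.Agent.Ribbon.K932.TrivExt
import Groth.Agent.Ribbon.K932.SqKill
import Groth.Agent.S0440

/-!
# Split square-zero thickenings are trivial extensions
-/

set_option autoImplicit false
universe u

open CategoryTheory Limits AlgebraicGeometry Opposite TopologicalSpace

namespace K932.Split

open Groth.Agent Groth.Agent.CohqB Groth.Agent.CohqA.IdealMod K932.TrivExt
open AlgebraicGeometry.Scheme.AffineZariskiSite AlgebraicGeometry.Scheme
open Groth.Agent.Ega2.H280.RelSpecAlg (affα)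

section CompLift

variable {X : Scheme.{u}} {F : X.AffineZariskiSiteᵒᵖ ⥤ CommRingCat.{u}}
  {α : (Scheme.AffineZariskiSite.toOpensFunctor X).op ⋙ X.presheaf ⟶ F} (H : α.Coequifibered)

theorem le_preimage {T T' : Scheme.{u}} (g : T ⟶ X) (g' : T' ⟶ X) (t : T ⟶ T') (ht : t ≫ g' = g)
    (U : X.Opens) : g ⁻¹ᵁ U ≤ t ⁻¹ᵁ g' ⁻¹ᵁ U := by
  rw [← ht]
  exact le_rfl

/-- Compatibility of `lift` with precomposition. -/
theorem comp_lift {T T' : Scheme.{u}} {g : T ⟶ X} {g' : T' ⟶ X} (d : RelSpec.LiftData α g)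
    (d' : RelSpec.LiftData α g') (t : T ⟶ T') (ht : t ≫ g' = g)
    (hd : ∀ U : X.AffineZariskiSite,
      d'.ψ U ≫ t.appLE (g' ⁻¹ᵁ U.toOpens) (g ⁻¹ᵁ U.toOpens) (le_preimage g g' t ht U.toOpens) =
        d.ψ U) :
    t ≫ RelSpec.lift H d' = RelSpec.lift H d := by
  refine Scheme.Cover.hom_ext (T.openCoverOfIsOpenCover _
    (.comap (iSup_affineOpens_eq_top X) g.base.hom)) _ _ fun U ↦ ?_
  let U' : X.AffineZariskiSite := ⟨U.1, U.2⟩
  change (g ⁻¹ᵁ U'.toOpens).ι ≫ t ≫ RelSpec.lift H d' = (g ⁻¹ᵁ U'.toOpens).ι ≫ RelSpec.lift H d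
  rw [RelSpec.ι_lift, ← hd, Spec.map_comp, Category.assoc,
    Scheme.Opens.toSpecΓ_SpecMap_appLE_assoc, ← RelSpec.ι_lift]
  rw [← Category.assoc, ← Category.assoc, Scheme.Hom.resLE_comp_ι]

end CompLift

section Sec

variable {D : Scheme.{u}} {M : D.Modules} (hM : Coh.IsQCoh M)

/-- The data of the section of a trivial extension. -/
noncomputable def secData (M : D.Modules) : RelSpec.LiftData (affα (B M) (φ M)) (𝟙 D) where
  ψ U := CommRingCat.ofHom (SqExt.fstHom (A := Γ(D, U.toOpens)) (N := Γ(M, U.toOpens)))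
  nat _ := rfl
  comp _ := rfl

/-- The trivial extension of `D` by `M`. -/
noncomputable def triv : Scheme.{u} := RelSpec.obj (coequifibered hM)

/-- The retraction of the trivial extension to `D`. -/
noncomputable def toD : triv hM ⟶ D := RelSpec.toBase (coequifibered hM)

instance : IsAffineHom (toD hM) := RelSpec.isAffineHom_toBase _

/-- The section of the trivial extension. -/
noncomputable def sec : D ⟶ triv hM := RelSpec.lift (coequifibered hM) (secData M)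

theorem sec_toD : sec hM ≫ toD hM = 𝟙 D := RelSpec.lift_toBase _ _

instance : IsClosedImmersion (sec hM) :=
  RelSpec.isClosedImmersion_lift (coequifibered hM) (secData M) fun U =>
    SqExt.fst_surjective (A := Γ(D, U.toOpens)) (N := Γ(M, U.toOpens))

end Sec

section Retract

variable {D C : Scheme.{u}} (i : D ⟶ C) [IsClosedImmersion i] (p : C ⟶ D)

theorem surjective_of_sq (hI : i.ker ^ 2 = ⊥) : Function.Surjective i := by
  rw [← Set.range_eq_univ]
  have h1 : i.ker.support = ⊤ := SqZero.support_eq_top i.ker hI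
  have h2 := i.support_ker
  rw [h1] at h2
  have h3 : closure (Set.range i) = Set.univ := by
    rw [← h2]; rfl
  rw [← h3, IsClosed.closure_eq]
  exact i.isClosedEmbedding.isClosed_range

theorem isAffineHom_retract (hip : i ≫ p = 𝟙 D) (hI : i.ker ^ 2 = ⊥) : IsAffineHom p := by
  constructor
  intro U hU
  have h1 : i ⁻¹ᵁ p ⁻¹ᵁ U = U := by
    rw [← Scheme.Hom.comp_preimage, hip]
    rfl
  have h2 : IsAffineOpen (i ⁻¹ᵁ p ⁻¹ᵁ U) := by
    rw [h1]
    exact hU
  have h3 : Function.Surjective (i ∣_ p ⁻¹ᵁ U) := by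
    have : Surjective i := ⟨surjective_of_sq i hI⟩
    have h4 : Surjective (i ∣_ p ⁻¹ᵁ U) := IsZariskiLocalAtTarget.restrict (P := @Surjective) this _
    exact h4.surj
  have h5 : IsAffine (i ⁻¹ᵁ p ⁻¹ᵁ U).toScheme := h2
  exact S0440.result (i ∣_ p ⁻¹ᵁ U) h3

variable (hip : i ≫ p = 𝟙 D)

include hip in
omit [IsClosedImmersion i] in
theorem preimage_eq (U : D.Opens) : i ⁻¹ᵁ p ⁻¹ᵁ U = U := by
  rw [← Scheme.Hom.comp_preimage, hip]
  rfl

include hip in
omit [IsClosedImmersion i] in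
theorem le_pre (U : D.Opens) : U ≤ i ⁻¹ᵁ p ⁻¹ᵁ U := (preimage_eq i p hip U).ge

/-- `i^# : Γ(C, p⁻¹ U) ⟶ Γ(D, U)` -/
noncomputable def σ (U : D.Opens) : Γ(C, p ⁻¹ᵁ U) ⟶ Γ(D, U) :=
  i.appLE (p ⁻¹ᵁ U) U (le_pre i p hip U)

omit [IsClosedImmersion i] in
theorem app_σ (U : D.Opens) : p.app U ≫ σ i p hip U = 𝟙 _ := by
  have h1 : p.app U = p.appLE U (p ⁻¹ᵁ U) le_rfl := (Scheme.Hom.appLE_eq_app _).symm
  have h2 := Scheme.Hom.appLE_comp_appLE i p U (p ⁻¹ᵁ U) U le_rfl (le_pre i p hip U)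
  have h3 := Groth.Agent.Ega2.H280.RelSpecAlg.appLE_congr_hom hip U U (le_pre i p hip U)
  have h4 : (𝟙 D : D ⟶ D).appLE U U le_rfl = 𝟙 _ :=
    (Scheme.Hom.appLE_eq_app (f := 𝟙 D) (U := U)).trans rfl
  rw [h1]
  exact h2.trans (h3.trans h4)

theorem σ_app (U : D.Opens) (a : Γ(D, U)) : (σ i p hip U).hom ((p.app U).hom a) = a :=
  congr($(app_σ i p hip U) a)

theorem σ_eq_zero_iff (U : D.Opens) (hV : IsAffineOpen (p ⁻¹ᵁ U)) (s : Γ(C, p ⁻¹ᵁ U)) :
    (σ i p hip U).hom s = 0 ↔ s ∈ i.ker.ideal ⟨p ⁻¹ᵁ U, hV⟩ := by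
  rw [Scheme.Hom.ker_apply, RingHom.mem_ker]
  have h0 : (σ i p hip U).hom s =
      (D.presheaf.map (homOfLE (le_pre i p hip U)).op).hom ((i.app (p ⁻¹ᵁ U)).hom s) := rfl
  rw [h0]
  have h2 : Function.Injective (D.presheaf.map (homOfLE (le_pre i p hip U)).op).hom := by
    have : IsIso (homOfLE (le_pre i p hip U)) := ⟨homOfLE (preimage_eq i p hip U).le, rfl, rfl⟩
    exact ((ConcreteCategory.isIso_iff_bijective (D.presheaf.map
      (homOfLE (le_pre i p hip U)).op)).mp inferInstance).1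
  exact map_eq_zero_iff _ h2

theorem exists_ideal (U : D.Opens) (hV : IsAffineOpen (p ⁻¹ᵁ U)) (s : Γ(C, p ⁻¹ᵁ U)) :
    (σ i p hip U).hom s = 0 ↔ ∃ x, (ClSub.idealModι i.ker).app (p ⁻¹ᵁ U) x = s := by
  rw [σ_eq_zero_iff i p hip U hV]
  exact (exists_idealModι_app_iff i.ker ⟨p ⁻¹ᵁ U, hV⟩ s).symm

/-- `M ≅ p_* I` -/
noncomputable def pushIdealIso (hI : i.ker ^ 2 = ⊥) :
    (Scheme.Modules.pushforward p).obj (ClSub.idealMod i.ker) ≅
      (Scheme.Modules.pullback i).obj (ClSub.idealMod i.ker) :=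
  (Scheme.Modules.pushforward p).mapIso
      (FormalA.ClosedImm.pushPullIso i (SqKill.killed_idealMod i.ker hI)).symm ≪≫
    (Scheme.Modules.pushforwardComp i p).app _ ≪≫ (Scheme.Modules.pushforwardCongr hip).app _ ≪≫
    (Scheme.Modules.pushforwardId D).app _

variable {M : D.Modules} (κ : M ⟶ (Scheme.Modules.pushforward p).obj (ClSub.idealMod i.ker))

/-- sections of `M` as functions on `C` -/
noncomputable def γ (U : D.Opens) : Γ(M, U) →+ Γ(C, p ⁻¹ᵁ U) :=
  AddMonoidHom.comp (M := Γ(M, U)) (N := Γ(ClSub.idealMod i.ker, p ⁻¹ᵁ U)) (P := Γ(C, p ⁻¹ᵁ U))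
    (idealModLin i.ker (p ⁻¹ᵁ U)).toAddMonoidHom (κ.app U).hom

omit [IsClosedImmersion i] in
theorem γ_smul (U : D.Opens) (a : Γ(D, U)) (m : Γ(M, U)) :
    γ i p κ U (a • m) = (p.app U).hom a * γ i p κ U m := by
  have h1 : κ.app U (a • m) = a • κ.app U m := κ.app_smul a m
  have h2 : ∀ x : Γ(ClSub.idealMod i.ker, p ⁻¹ᵁ U), idealModLin i.ker (p ⁻¹ᵁ U)
      ((p.app U).hom a • x) = (p.app U).hom a * idealModLin i.ker (p ⁻¹ᵁ U) x :=
    fun x => map_smul (idealModLin i.ker (p ⁻¹ᵁ U)) _ x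
  change idealModLin i.ker (p ⁻¹ᵁ U) (κ.app U (a • m)) = _
  rw [h1]
  exact h2 _

omit [IsClosedImmersion i] in
theorem γ_mul (hI : i.ker ^ 2 = ⊥) (U : D.Opens) (hV : IsAffineOpen (p ⁻¹ᵁ U)) (m n : Γ(M, U)) :
    γ i p κ U m * γ i p κ U n = 0 := by
  have h1 : ∀ m, γ i p κ U m ∈ i.ker.ideal ⟨p ⁻¹ᵁ U, hV⟩ := fun m =>
    (exists_idealModι_app_iff i.ker ⟨p ⁻¹ᵁ U, hV⟩ _).mp ⟨_, rfl⟩
  have h2 : γ i p κ U m * γ i p κ U n ∈ i.ker.ideal ⟨p ⁻¹ᵁ U, hV⟩ ^ 2 := by
    rw [pow_two]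
    exact Ideal.mul_mem_mul (h1 m) (h1 n)
  rwa [SqZero.ideal_sq i.ker hI] at h2

theorem γ_res {U V : D.Opens} (h : V ≤ U) (m : Γ(M, U)) :
    γ i p κ V (M.presheaf.map (homOfLE h).op m) =
      (C.presheaf.map (homOfLE (p.preimage_mono h)).op).hom (γ i p κ U m) := by
  have h1 : κ.app V (M.presheaf.map (homOfLE h).op m) =
      (ClSub.idealMod i.ker).presheaf.map (homOfLE (p.preimage_mono h)).op (κ.app U m) :=
    congr($(κ.mapPresheaf.naturality (homOfLE h).op) m)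
  change idealModLin i.ker (p ⁻¹ᵁ V) (κ.app V _) = _
  rw [h1]
  exact congr($((ClSub.idealModι i.ker).mapPresheaf.naturality (homOfLE (p.preimage_mono h)).op) _)

include hip in
theorem σ_γ (U : D.Opens) (hV : IsAffineOpen (p ⁻¹ᵁ U)) (m : Γ(M, U)) :
    (σ i p hip U).hom (γ i p κ U m) = 0 :=
  (exists_ideal i p hip U hV _).mpr ⟨_, rfl⟩

/-- the ring map `O_D ⊕ M ⟶ p_* O_C` -/
noncomputable def ψ (hI : i.ker ^ 2 = ⊥) (U : D.Opens) (hV : IsAffineOpen (p ⁻¹ᵁ U)) :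
    SqExt Γ(D, U) Γ(M, U) →+* Γ(C, p ⁻¹ᵁ U) :=
  SqExt.lift (p.app U).hom (γ i p κ U) (γ_smul i p κ U) (γ_mul i p κ hI U hV)

theorem ψ_inl (hI : i.ker ^ 2 = ⊥) (U : D.Opens) (hV : IsAffineOpen (p ⁻¹ᵁ U)) (a : Γ(D, U)) :
    ψ i p κ hI U hV (SqExt.inl a) = (p.app U).hom a := SqExt.lift_inl _ _ _ _ _

theorem ψ_inr (hI : i.ker ^ 2 = ⊥) (U : D.Opens) (hV : IsAffineOpen (p ⁻¹ᵁ U)) (m : Γ(M, U)) :
    ψ i p κ hI U hV (SqExt.inr m) = γ i p κ U m := SqExt.lift_inr _ _ _ _ _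

theorem p_res {U V : D.Opens} (h : V ≤ U) (a : Γ(D, U)) :
    (p.app V).hom ((D.presheaf.map (homOfLE h).op).hom a) =
      (C.presheaf.map (homOfLE (p.preimage_mono h)).op).hom ((p.app U).hom a) :=
  congr($(p.naturality (homOfLE h).op) a)

/-- The comparison of a split thickening with the trivial extension. -/
noncomputable def liftData [IsAffineHom p] (hI : i.ker ^ 2 = ⊥) :
    RelSpec.LiftData (affα (B M) (φ M)) p where
  ψ U := CommRingCat.ofHom (ψ i p κ hI U.toOpens (U.2.preimage p))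
  nat {U V} j := by
    ext1
    refine SqExt.ringHom_ext (A := Γ(D, V.toOpens)) (N := Γ(M, V.toOpens)) (fun a => ?_) fun m => ?_
    · refine Eq.trans ?_ (((p_res p (toOpens_mono j.le) a)).trans ?_)
      · refine (congrArg (ψ i p κ hI U.toOpens (U.2.preimage p)) ?_).trans (ψ_inl i p κ hI _ _ _)
        refine SqExt.ext rfl ?_
        exact map_zero (M.presheaf.map _).hom
      · exact congrArg (C.presheaf.map _).hom
          (ψ_inl i p κ hI V.toOpens (V.2.preimage p) a).symm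
    · refine Eq.trans ?_ (((γ_res i p κ (toOpens_mono j.le) m)).trans ?_)
      · refine (congrArg (ψ i p κ hI U.toOpens (U.2.preimage p)) ?_).trans (ψ_inr i p κ hI _ _ _)
        refine SqExt.ext ?_ rfl
        exact map_zero (D.presheaf.map _).hom
      · exact congrArg (C.presheaf.map _).hom
          (ψ_inr i p κ hI V.toOpens (V.2.preimage p) m).symm
  comp U := by
    ext1
    refine RingHom.ext fun a => ?_
    exact ψ_inl i p κ hI U.toOpens (U.2.preimage p) a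

include hip in
theorem σ_ψ (hI : i.ker ^ 2 = ⊥) (U : D.Opens) (hV : IsAffineOpen (p ⁻¹ᵁ U))
    (x : SqExt Γ(D, U) Γ(M, U)) : (σ i p hip U).hom (ψ i p κ hI U hV x) = x.fst := by
  have h1 : ψ i p κ hI U hV x = (p.app U).hom x.fst + γ i p κ U x.snd := rfl
  rw [h1, map_add, σ_app i p hip, σ_γ i p hip κ U hV, add_zero]

include hip in
theorem ψ_bijective [IsIso κ] (hI : i.ker ^ 2 = ⊥) (U : D.Opens) (hV : IsAffineOpen (p ⁻¹ᵁ U)) :
    Function.Bijective (ψ i p κ hI U hV) := by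
  have hκ : Function.Bijective (κ.app U) :=
    (ConcreteCategory.isIso_iff_bijective (κ.app U)).mp inferInstance
  constructor
  · rw [injective_iff_map_eq_zero]
    intro x hx
    have h1 := σ_ψ i p hip κ hI U hV x
    rw [hx, map_zero] at h1
    have h2 : ψ i p κ hI U hV x = (p.app U).hom x.fst + γ i p κ U x.snd := rfl
    rw [hx, ← h1, map_zero, zero_add] at h2
    have h3 : κ.app U x.snd = 0 := idealModLin_injective i.ker (p ⁻¹ᵁ U)
      (h2.symm.trans (map_zero (idealModLin i.ker (p ⁻¹ᵁ U))).symm)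
    have h4 : x.snd = 0 := hκ.1 (by rw [h3, map_zero])
    exact SqExt.ext h1.symm h4
  · intro s
    have h1 : (σ i p hip U).hom (s - (p.app U).hom ((σ i p hip U).hom s)) = 0 := by
      rw [map_sub, σ_app i p hip, sub_self]
    obtain ⟨y, hy⟩ := (exists_ideal i p hip U hV _).mp h1
    obtain ⟨m, hm⟩ := hκ.2 y
    refine ⟨⟨(σ i p hip U).hom s, m⟩, ?_⟩
    have h2 : γ i p κ U m = s - (p.app U).hom ((σ i p hip U).hom s) := by
      rw [← hy, ← hm]
      rfl
    change (p.app U).hom ((σ i p hip U).hom s) + γ i p κ U m = s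
    rw [h2, add_sub_cancel]

include hip in
/-- A split thickening with retraction `p` and `M ≅ p_* I` is isomorphic to the trivial extension. -/
theorem exists_iso [IsIso κ] (hI : i.ker ^ 2 = ⊥) (hM : Coh.IsQCoh M) :
    ∃ e : C ≅ triv hM, e.hom ≫ toD hM = p ∧ i ≫ e.hom = sec hM := by
  have hp := isAffineHom_retract i p hip hI
  let f : C ⟶ triv hM := RelSpec.lift (coequifibered hM) (liftData i p κ hI)
  have h1 : IsIso f :=
    RelSpec.isIso_lift _ _ fun U => ψ_bijective i p hip κ hI U.toOpens (U.2.preimage p)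
  refine ⟨asIso f, ?_, ?_⟩
  · exact RelSpec.lift_toBase _ _
  · refine comp_lift (coequifibered hM) (secData M) (liftData i p κ hI) i hip fun U => ?_
    ext1
    refine RingHom.ext fun x => ?_
    exact σ_ψ i p hip κ hI U.toOpens (U.2.preimage p) x

end Retract

end K932.Split
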