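import Mathlib.RingTheory.Localization.Away.Basic
import Mathlib.Algebra.Module.LinearMap.Basic
import Mathlib.RingTheory.FiniteType
import Mathlib.RingTheory.Finiteness.Basic
import Mathlib.Tactic.Module
import Mathlib.Tactic.LinearCombination

/-!
# The trivial square-zero extension of a commutative ring by a module
-/

set_option autoImplicit false
set_option linter.unusedSectionVars false
universe u

namespace K932

/-- The trivial square-zero extension `A ⊕ N`. -/
@[ext]
structure SqExt (A N : Type u) : Type u where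
  /-- the ring component -/
  fst : A
  /-- the module component -/
  snd : N

namespace SqExt

variable {A N : Type u} [CommRing A] [AddCommGroup N] [Module A N]

instance : Zero (SqExt A N) := ⟨⟨0, 0⟩⟩
instance : One (SqExt A N) := ⟨⟨1, 0⟩⟩
instance : Add (SqExt A N) := ⟨fun x y => ⟨x.fst + y.fst, x.snd + y.snd⟩⟩
instance : Neg (SqExt A N) := ⟨fun x => ⟨-x.fst, -x.snd⟩⟩
instance : Mul (SqExt A N) := ⟨fun x y => ⟨x.fst * y.fst, x.fst • y.snd + y.fst • x.snd⟩⟩

@[simp] theorem zero_fst : (0 : SqExt A N).fst = 0 := rfl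
@[simp] theorem zero_snd : (0 : SqExt A N).snd = 0 := rfl
@[simp] theorem one_fst : (1 : SqExt A N).fst = 1 := rfl
@[simp] theorem one_snd : (1 : SqExt A N).snd = 0 := rfl
@[simp] theorem add_fst (x y : SqExt A N) : (x + y).fst = x.fst + y.fst := rfl
@[simp] theorem add_snd (x y : SqExt A N) : (x + y).snd = x.snd + y.snd := rfl
@[simp] theorem neg_fst (x : SqExt A N) : (-x).fst = -x.fst := rfl
@[simp] theorem neg_snd (x : SqExt A N) : (-x).snd = -x.snd := rfl
@[simp] theorem mul_fst (x y : SqExt A N) : (x * y).fst = x.fst * y.fst := rfl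
@[simp] theorem mul_snd (x y : SqExt A N) :
    (x * y).snd = x.fst • y.snd + y.fst • x.snd := rfl

instance : CommRing (SqExt A N) where
  add_assoc x y z := by ext <;> simp [add_assoc]
  zero_add x := by ext <;> simp
  add_zero x := by ext <;> simp
  nsmul := nsmulRec
  add_comm x y := by ext <;> simp [add_comm]
  left_distrib x y z := by
    ext
    · simp [mul_add]
    · simp only [mul_snd, add_snd, add_fst]
      module
  right_distrib x y z := by
    ext
    · simp [add_mul]
    · simp only [mul_snd, add_snd, add_fst]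
      module
  zero_mul x := by ext <;> simp
  mul_zero x := by ext <;> simp
  mul_assoc x y z := by
    ext
    · simp [mul_assoc]
    · simp only [mul_snd, mul_fst]
      module
  one_mul x := by ext <;> simp
  mul_one x := by ext <;> simp
  zsmul := zsmulRec
  neg_add_cancel x := by ext <;> simp
  mul_comm x y := by
    ext
    · simp [mul_comm]
    · simp only [mul_snd]
      module

/-- The inclusion of the ring. -/
def inl : A →+* SqExt A N where
  toFun a := ⟨a, 0⟩
  map_one' := rfl
  map_mul' a b := by ext <;> simp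
  map_zero' := rfl
  map_add' a b := by ext <;> simp

/-- The inclusion of the module. -/
def inr : N →+ SqExt A N where
  toFun n := ⟨0, n⟩
  map_zero' := rfl
  map_add' a b := by ext <;> simp

/-- The projection onto the ring. -/
def fstHom : SqExt A N →+* A where
  toFun x := x.fst
  map_one' := rfl
  map_mul' _ _ := rfl
  map_zero' := rfl
  map_add' _ _ := rfl

@[simp] theorem inl_fst (a : A) : (inl a : SqExt A N).fst = a := rfl
@[simp] theorem inl_snd (a : A) : (inl a : SqExt A N).snd = 0 := rfl
@[simp] theorem inr_fst (n : N) : (inr n : SqExt A N).fst = 0 := rfl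
@[simp] theorem inr_snd (n : N) : (inr n : SqExt A N).snd = n := rfl
@[simp] theorem fstHom_apply (x : SqExt A N) : fstHom x = x.fst := rfl

theorem inl_add_inr (x : SqExt A N) : inl x.fst + inr x.snd = x := by ext <;> simp

theorem fst_surjective : Function.Surjective (fstHom : SqExt A N →+* A) := fun a => ⟨inl a, rfl⟩

section Lift

variable {R : Type u} [CommRing R]

/-- Ring maps out of the square-zero extension. -/
def lift (f : A →+* R) (g : N →+ R) (hg : ∀ a n, g (a • n) = f a * g n)
    (h0 : ∀ m n, g m * g n = 0) : SqExt A N →+* R where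
  toFun x := f x.fst + g x.snd
  map_one' := by simp
  map_zero' := by simp
  map_add' x y := by simp only [add_fst, add_snd, map_add]; ring
  map_mul' x y := by
    simp only [mul_fst, mul_snd, map_add, map_mul, hg]
    linear_combination -h0 x.snd y.snd

@[simp] theorem lift_apply (f : A →+* R) (g : N →+ R) (hg : ∀ a n, g (a • n) = f a * g n)
    (h0 : ∀ m n, g m * g n = 0) (x : SqExt A N) : lift f g hg h0 x = f x.fst + g x.snd := rfl

theorem lift_inl (f : A →+* R) (g : N →+ R) (hg : ∀ a n, g (a • n) = f a * g n)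
    (h0 : ∀ m n, g m * g n = 0) (a : A) : lift f g hg h0 (inl a) = f a := by simp

theorem lift_inr (f : A →+* R) (g : N →+ R) (hg : ∀ a n, g (a • n) = f a * g n)
    (h0 : ∀ m n, g m * g n = 0) (n : N) : lift f g hg h0 (inr n) = g n := by simp

theorem ringHom_ext {φ ψ : SqExt A N →+* R} (h1 : ∀ a, φ (inl a) = ψ (inl a))
    (h2 : ∀ n, φ (inr n) = ψ (inr n)) : φ = ψ := by
  ext x
  rw [← inl_add_inr x, map_add, map_add, h1, h2]

end Lift

section Map

variable {B P : Type u} [CommRing B] [AddCommGroup P] [Module B P]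

/-- Functoriality of the square-zero extension. -/
def map (f : A →+* B) (g : N →+ P) (hg : ∀ a n, g (a • n) = f a • g n) :
    SqExt A N →+* SqExt B P where
  toFun x := ⟨f x.fst, g x.snd⟩
  map_one' := by ext <;> simp
  map_zero' := by ext <;> simp
  map_add' x y := by ext <;> simp
  map_mul' x y := by ext <;> simp [hg]

@[simp] theorem map_fst (f : A →+* B) (g : N →+ P) (hg : ∀ a n, g (a • n) = f a • g n)
    (x : SqExt A N) : (map f g hg x).fst = f x.fst := rfl

@[simp] theorem map_snd (f : A →+* B) (g : N →+ P) (hg : ∀ a n, g (a • n) = f a • g n)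
    (x : SqExt A N) : (map f g hg x).snd = g x.snd := rfl

theorem smul_pow_inl (a : A) (n : ℕ) (x : SqExt A N) :
    (inl a : SqExt A N) ^ n * x = ⟨a ^ n * x.fst, a ^ n • x.snd⟩ := by
  rw [← map_pow]
  ext
  · rfl
  · rw [mul_snd, inl_fst, inl_snd, smul_zero, add_zero]

/-- Localization of a square-zero extension. -/
theorem isLocalization_map (f : A →+* B) (g : N →+ P) (hg : ∀ a n, g (a • n) = f a • g n) (s : A)
    (hu : IsUnit (f s))
    (h1 : ∀ b : B, ∃ (n : ℕ) (a : A), f a = f s ^ n * b)
    (h2 : ∀ a a' : A, f a = f a' → ∃ n : ℕ, s ^ n * a = s ^ n * a')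
    (h3 : ∀ p : P, ∃ (n : ℕ) (m : N), g m = f s ^ n • p)
    (h4 : ∀ m m' : N, g m = g m' → ∃ n : ℕ, s ^ n • m = s ^ n • m') :
    letI := (map f g hg).toAlgebra
    IsLocalization.Away (inl s : SqExt A N) (SqExt B P) := by
  let _ := (map f g hg).toAlgebra
  have hmap : ∀ x : SqExt A N, algebraMap (SqExt A N) (SqExt B P) x = map f g hg x := fun _ => rfl
  have hs : map f g hg (inl s) = inl (f s) := by ext <;> simp
  refine (isLocalization_iff _ _).2 ⟨?_, ?_, ?_⟩
  · rintro ⟨_, n, rfl⟩
    rw [hmap]
    change IsUnit (map f g hg ((inl s) ^ n))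
    rw [map_pow, hs]
    exact (hu.map inl).pow n
  · intro z
    obtain ⟨n, a, ha⟩ := h1 z.fst
    obtain ⟨m, b, hb⟩ := h3 z.snd
    refine ⟨⟨⟨s ^ m * a, s ^ n • b⟩, ⟨_, n + m, rfl⟩⟩, ?_⟩
    rw [hmap, hmap]
    change z * map f g hg ((inl s) ^ (n + m)) = _
    rw [map_pow, hs, mul_comm, smul_pow_inl]
    ext
    · simp only [map_fst, map_mul, map_pow, ha]
      ring
    · simp only [map_snd, hg, hb, map_pow, smul_smul, pow_add]
  · intro x y hxy
    rw [hmap, hmap] at hxy
    obtain ⟨n, hn⟩ := h2 x.fst y.fst (congrArg SqExt.fst hxy)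
    obtain ⟨m, hm⟩ := h4 x.snd y.snd (congrArg SqExt.snd hxy)
    refine ⟨⟨_, n + m, rfl⟩, ?_⟩
    change (inl s) ^ (n + m) * x = (inl s) ^ (n + m) * y
    rw [smul_pow_inl, smul_pow_inl]
    ext
    · change s ^ (n + m) * x.fst = s ^ (n + m) * y.fst
      rw [pow_add, mul_comm (s ^ n), mul_assoc, hn, ← mul_assoc]
    · change s ^ (n + m) • x.snd = s ^ (n + m) • y.snd
      rw [pow_add, mul_smul, hm, ← mul_smul]

end Map

end SqExt

end K932
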