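import Mathlib.AlgebraicGeometry.IdealSheaf.Subscheme
import Mathlib.AlgebraicGeometry.Morphisms.ClosedImmersion
import Mathlib.AlgebraicGeometry.Morphisms.Smooth

/-!
# Closed subschemes cut out by an ideal of square zero
-/

set_option autoImplicit false
universe u
open CategoryTheory CategoryTheory.Limits AlgebraicGeometry

namespace K932.SqZero

variable {C : Scheme.{u}} (I : C.IdealSheafData)

theorem support_eq_top (hI : I ^ 2 = ⊥) : I.support = ⊤ := by
  rw [← Scheme.IdealSheafData.support_pow (I := I) 2 two_ne_zero, hI, Scheme.IdealSheafData.support_bot]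

theorem surjective_subschemeι (hI : I ^ 2 = ⊥) : Function.Surjective I.subschemeι := by
  rw [← Set.range_eq_univ, I.range_subschemeι, support_eq_top I hI]
  rfl

theorem ideal_sq (hI : I ^ 2 = ⊥) (U : C.affineOpens) : I.ideal U ^ 2 = ⊥ := by
  have := congrArg (fun J : C.IdealSheafData => J.ideal U) hI
  simpa using this

end K932.SqZero
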