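import Groth.Agent.Ribbon.K932.SqExt
import Groth.Agent.CohqB.QC2
import Groth.Agent.CohqB.RelSpec
import Groth.Agent.Ega2.H280.RelSpecAlg
import Groth.Agent.CalgA.RelSpecMap

/-!
# The trivial extension of a scheme by a quasi-coherent module
-/

set_option autoImplicit false
universe u

open CategoryTheory Limits AlgebraicGeometry Opposite TopologicalSpace

namespace K932.TrivExt

open Groth.Agent.CohqB.QC2 Groth.Agent.CohqB
open AlgebraicGeometry.Scheme.AffineZariskiSite AlgebraicGeometry.Scheme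

variable {X : Scheme.{u}} (M : X.Modules)

theorem map_smul' {U V : X.Opensᵒᵖ} (i : U ⟶ V) (r : Γ(X, U.unop)) (m : Γ(M, U.unop)) :
    (M.presheaf.map i).hom (r • m) =
      (show Γ(X, V.unop) from (X.presheaf.map i).hom r) •
        (show Γ(M, V.unop) from (M.presheaf.map i).hom m) :=
  Scheme.Modules.map_smul M i.unop r m

/-- The presheaf of rings `O_X ⊕ M`. -/
noncomputable def pre : TopCat.Presheaf CommRingCat.{u} X where
  obj U := CommRingCat.of (SqExt Γ(X, U.unop) Γ(M, U.unop))
  map {U V} i := CommRingCat.ofHom (SqExt.map (X.presheaf.map i).hom (M.presheaf.map i).hom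
    (map_smul' M i))
  map_id U := by
    ext1
    refine RingHom.ext fun x => ?_
    apply SqExt.ext
    · exact congr($(X.presheaf.map_id U) x.fst)
    · exact congr($(M.presheaf.map_id U) x.snd)
  map_comp {U V W} i j := by
    ext1
    refine RingHom.ext fun x => ?_
    apply SqExt.ext
    · exact congr($(X.presheaf.map_comp i j) x.fst)
    · exact congr($(M.presheaf.map_comp i j) x.snd)

theorem isSheaf_pre : TopCat.Presheaf.IsSheaf (pre M) := by
  rw [TopCat.Presheaf.isSheaf_iff_isSheafUniqueGluing]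
  intro ι U sf h
  have h1 : TopCat.Presheaf.IsCompatible X.presheaf U (fun i => (sf i).fst) := fun i j =>
    congrArg SqExt.fst (h i j)
  have h2 : TopCat.Presheaf.IsCompatible M.presheaf U (fun i => (sf i).snd) := fun i j =>
    congrArg SqExt.snd (h i j)
  obtain ⟨s, hs, hs'⟩ := X.sheaf.existsUnique_gluing U _ h1
  obtain ⟨t, ht, ht'⟩ := TopCat.Sheaf.existsUnique_gluing ⟨M.presheaf, M.isSheaf⟩ U _ h2
  refine ⟨⟨s, t⟩, fun i => SqExt.ext (hs i) (ht i), fun x hx => SqExt.ext ?_ ?_⟩
  · exact hs' _ fun i => congrArg SqExt.fst (hx i)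
  · exact ht' _ fun i => congrArg SqExt.snd (hx i)

/-- The sheaf of rings `O_X ⊕ M`. -/
noncomputable def B : Sheaf (Opens.grothendieckTopology X) CommRingCat.{u} := ⟨pre M, isSheaf_pre M⟩

/-- The structure map `O_X ⟶ O_X ⊕ M`. -/
noncomputable def φ : X.sheaf ⟶ B M := ⟨{
  app U := CommRingCat.ofHom (SqExt.inl (A := Γ(X, U.unop)) (N := Γ(M, U.unop)))
  naturality U V i := by
    ext1
    refine RingHom.ext fun x => ?_
    apply SqExt.ext
    · rfl
    · exact (map_zero (M.presheaf.map i).hom).symm }⟩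

/-- The augmentation `O_X ⊕ M ⟶ O_X`. -/
noncomputable def ε : B M ⟶ X.sheaf := ⟨{
  app U := CommRingCat.ofHom (SqExt.fstHom (A := Γ(X, U.unop)) (N := Γ(M, U.unop)))
  naturality _ _ _ := rfl }⟩

variable {M}

theorem coequifibered (hM : Coh.IsQCoh M) : (Groth.Agent.Ega2.H280.RelSpecAlg.affα (B M) (φ M)).Coequifibered := by
  rw [coequifibered_iff_forall_isLocalizationAway]
  intro U f
  have hL : Loc M U.toOpens := loc_of_isQuasicoherent _ U.2
  have h1 : IsLocalization.Away f Γ(X, X.basicOpen f) := U.2.isLocalization_basicOpen f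
  have hu : IsUnit (resR (X.basicOpen_le f) f) := RingedSpace.isUnit_res_basicOpen _ f
  refine SqExt.isLocalization_map (A := Γ(X, U.toOpens)) (N := Γ(M, U.toOpens))
    (B := Γ(X, X.basicOpen f)) (P := Γ(M, X.basicOpen f)) (resR (X.basicOpen_le f))
    (res M (X.basicOpen_le f)) (res_smul M (X.basicOpen_le f)) f hu ?_ ?_ ?_ ?_
  · intro b
    obtain ⟨n, a, ha⟩ := IsLocalization.Away.surj f b
    exact ⟨n, a, ha.symm.trans (mul_comm _ _)⟩
  · intro a a' h
    obtain ⟨n, hn⟩ := IsLocalization.Away.exists_of_eq (S := Γ(X, X.basicOpen f)) f h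
    exact ⟨n, hn⟩
  · intro p
    obtain ⟨n, t, ht⟩ := hL.exists_lift f p
    exact ⟨n, t, ht⟩
  · intro m m' h
    obtain ⟨n, hn⟩ := hL.eq_zero f (m - m') (by rw [map_sub, h, sub_self])
    exact ⟨n, by rwa [smul_sub, sub_eq_zero] at hn⟩

end K932.TrivExt
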