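import Groth.Agent.Ribbon.K932.Split

/-!
# The ideal of the section of a trivial extension
-/

set_option autoImplicit false
universe u

open CategoryTheory Limits AlgebraicGeometry Opposite TopologicalSpace

namespace K932.TrivSec

open Groth.Agent Groth.Agent.CohqB Groth.Agent.CohqA.IdealMod K932.TrivExt K932.Split
open AlgebraicGeometry.Scheme.AffineZariskiSite AlgebraicGeometry.Scheme
open Groth.Agent.Ega2.H280.RelSpecAlg (affα algIso comp_algIso_hom whiskerLeft_algIso_hom)

/-- A morphism of modules which is bijective on affine opens is an isomorphism. -/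
theorem isIso_of_affine {X : Scheme.{u}} {M N : X.Modules} (φ : M ⟶ N)
    (h : ∀ U : X.affineOpens, Function.Bijective (φ.app U.1)) : IsIso φ := by
  rw [← isIso_iff_of_reflects_iso _ (Scheme.Modules.toPresheaf X)]
  let F : TopCat.Sheaf Ab.{u} X := ⟨M.presheaf, M.isSheaf⟩
  let G : TopCat.Sheaf Ab.{u} X := ⟨N.presheaf, N.isSheaf⟩
  let ψ : F ⟶ G := ⟨φ.mapPresheaf⟩
  have : IsIso ψ := TopCat.Sheaf.isIso_iff_isIso_basis (B := fun U : X.affineOpens ↦ U.1)
      (by simpa using X.isBasis_affineOpens) (φ := ψ) fun i ↦ by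
    rw [ConcreteCategory.isIso_iff_bijective]
    exact h i
  exact @Functor.map_isIso _ _ _ _ _ _ (TopCat.Sheaf.forget Ab.{u} X) ψ this

variable {D : Scheme.{u}} {M : D.Modules} (hM : Coh.IsQCoh M)

/-- functions on the trivial extension -/
noncomputable def e (U : D.Opens) : Γ(triv hM, toD hM ⁻¹ᵁ U) →+* SqExt Γ(D, U) Γ(M, U) :=
  ((algIso (B M) (φ M) (coequifibered hM)).inv.hom.app (op U)).hom

/-- functions on the trivial extension -/
noncomputable def e' (U : D.Opens) : SqExt Γ(D, U) Γ(M, U) →+* Γ(triv hM, toD hM ⁻¹ᵁ U) :=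
  ((algIso (B M) (φ M) (coequifibered hM)).hom.hom.app (op U)).hom

theorem e_e' (U : D.Opens) (x : SqExt Γ(D, U) Γ(M, U)) : e hM U (e' hM U x) = x :=
  congr(($((algIso (B M) (φ M) (coequifibered hM)).hom_inv_id)).hom.app (op U) x)

theorem e'_e (U : D.Opens) (x : Γ(triv hM, toD hM ⁻¹ᵁ U)) : e' hM U (e hM U x) = x :=
  congr(($((algIso (B M) (φ M) (coequifibered hM)).inv_hom_id)).hom.app (op U) x)

theorem e'_inl (U : D.Opens) (a : Γ(D, U)) :
    e' hM U (SqExt.inl a) = ((toD hM).app U).hom a :=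
  congr(($(comp_algIso_hom (B M) (φ M) (coequifibered hM))).app (op U) a)

theorem e_app (U : D.Opens) (a : Γ(D, U)) : e hM U (((toD hM).app U).hom a) = SqExt.inl a := by
  rw [← e'_inl, e_e']

theorem e_res {U V : D.Opens} (h : V ≤ U) (x : Γ(triv hM, toD hM ⁻¹ᵁ U)) :
    e hM V (((triv hM).presheaf.map (homOfLE ((toD hM).preimage_mono h)).op).hom x) =
      ((pre M).map (homOfLE h).op).hom (e hM U x) :=
  congr($((algIso (B M) (φ M) (coequifibered hM)).inv.hom.naturality (homOfLE h).op) x)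

theorem secHom_e' (U : D.AffineZariskiSite) (x : SqExt Γ(D, U.toOpens) Γ(M, U.toOpens)) :
    (Ega2.H280.RelSpecAlg.secHom (coequifibered hM) U).hom (e' hM U.toOpens x) = x := by
  have h2 := congr(($(whiskerLeft_algIso_hom (B M) (φ M) (coequifibered hM))).app (op U) x)
  have h3 := congr($((Ega2.H280.RelSpecAlg.secIso (coequifibered hM)).inv_hom_id_app (op U)) x)
  exact (congrArg (Ega2.H280.RelSpecAlg.secHom (coequifibered hM) U).hom h2).trans h3

theorem σ_e' (U : D.AffineZariskiSite) (x : SqExt Γ(D, U.toOpens) Γ(M, U.toOpens)) :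
    (σ (sec hM) (toD hM) (sec_toD hM) U.toOpens).hom (e' hM U.toOpens x) = x.fst := by
  have h1 := congr($(CalgA.RelSpecMap.lift_appLE (coequifibered hM) (secData M) U)
    (e' hM U.toOpens x))
  exact h1.trans (congrArg SqExt.fst (secHom_e' hM U x))

theorem σ_e (U : D.AffineZariskiSite) (x : Γ(triv hM, toD hM ⁻¹ᵁ U.toOpens)) :
    (σ (sec hM) (toD hM) (sec_toD hM) U.toOpens).hom x = (e hM U.toOpens x).fst := by
  rw [← σ_e', e'_e]

theorem e_injective (U : D.Opens) : Function.Injective (e hM U) := fun x y h => by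
  rw [← e'_e hM U x, h, e'_e]

theorem ker_sq : (sec hM).ker ^ 2 = ⊥ := by
  refine Scheme.IdealSheafData.ext_of_iSup_eq_top (ι := D.AffineZariskiSite)
    (fun U => ⟨toD hM ⁻¹ᵁ U.toOpens, U.2.preimage (toD hM)⟩) ?_ fun U => ?_
  · exact TopologicalSpace.IsOpenCover.comap (iSup_affineOpens_eq_top D) (toD hM).base.hom
  · have hg : ∀ V : (triv hM).affineOpens, ((sec hM).ker ^ 2).ideal V = (sec hM).ker.ideal V ^ 2 := fun V => by
      simp
    have hb : ∀ V : (triv hM).affineOpens, (⊥ : (triv hM).IdealSheafData).ideal V = ⊥ := fun V => by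
      simp
    rw [hg, hb, eq_bot_iff, pow_two, Ideal.mul_le]
    intro r hr s hs
    have h1 : (e hM U.toOpens r).fst = 0 := by
      rw [← σ_e]
      exact (σ_eq_zero_iff (sec hM) (toD hM) (sec_toD hM) U.toOpens (U.2.preimage (toD hM)) r).mpr hr
    have h2 : (e hM U.toOpens s).fst = 0 := by
      rw [← σ_e]
      exact (σ_eq_zero_iff (sec hM) (toD hM) (sec_toD hM) U.toOpens (U.2.preimage (toD hM)) s).mpr hs
    refine e_injective hM U.toOpens ?_
    rw [map_mul, map_zero]
    refine SqExt.ext ?_ ?_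
    · rw [SqExt.mul_fst, h1, zero_mul]; rfl
    · rw [SqExt.mul_snd, h1, h2, zero_smul, zero_smul, add_zero]; rfl

/-- second component -/
def sndHom {A N : Type u} [CommRing A] [AddCommGroup N] [Module A N] : SqExt A N →+ N where
  toFun x := x.snd
  map_zero' := rfl
  map_add' _ _ := rfl

/-- `p_* I ⟶ M` on sections -/
noncomputable def νf (U : D.Opens) : Γ(ClSub.idealMod (sec hM).ker, toD hM ⁻¹ᵁ U) →+ Γ(M, U) :=
  (sndHom (A := Γ(D, U)) (N := Γ(M, U))).comp ((e hM U).toAddMonoidHom.comp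
    (idealModLin (sec hM).ker (toD hM ⁻¹ᵁ U)).toAddMonoidHom)

theorem νf_apply (U : D.Opens) (x : Γ(ClSub.idealMod (sec hM).ker, toD hM ⁻¹ᵁ U)) :
    νf hM U x = (e hM U (idealModLin (sec hM).ker (toD hM ⁻¹ᵁ U) x)).snd := rfl

theorem νf_smul (U : D.Opens) (a : Γ(D, U)) (x : Γ(ClSub.idealMod (sec hM).ker, toD hM ⁻¹ᵁ U)) :
    νf hM U (((toD hM).app U).hom a • x) = a • νf hM U x := by
  have h1 : idealModLin (sec hM).ker (toD hM ⁻¹ᵁ U) (((toD hM).app U).hom a • x) =
    ((toD hM).app U).hom a * idealModLin (sec hM).ker (toD hM ⁻¹ᵁ U) x := map_smul _ _ _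
  rw [νf_apply, νf_apply, h1, map_mul, e_app, SqExt.mul_snd, SqExt.inl_fst, SqExt.inl_snd, smul_zero,
    add_zero]

theorem νf_res {U V : D.Opens} (h : V ≤ U) (x : Γ(ClSub.idealMod (sec hM).ker, toD hM ⁻¹ᵁ U)) :
    νf hM V ((ClSub.idealMod (sec hM).ker).presheaf.map
      (homOfLE ((toD hM).preimage_mono h)).op x) = M.presheaf.map (homOfLE h).op (νf hM U x) := by
  have h1 : idealModLin (sec hM).ker (toD hM ⁻¹ᵁ V) ((ClSub.idealMod (sec hM).ker).presheaf.map
      (homOfLE ((toD hM).preimage_mono h)).op x) =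
      ((triv hM).presheaf.map (homOfLE ((toD hM).preimage_mono h)).op).hom
        (idealModLin (sec hM).ker (toD hM ⁻¹ᵁ U) x) :=
    congr($((ClSub.idealModι (sec hM).ker).mapPresheaf.naturality
      (homOfLE ((toD hM).preimage_mono h)).op) x)
  rw [νf_apply, νf_apply, h1, e_res]
  rfl

/-- `p_* I ⟶ M` -/
noncomputable def ν : (Scheme.Modules.pushforward (toD hM)).obj (ClSub.idealMod (sec hM).ker) ⟶ M :=
  ⟨PresheafOfModules.homMk
    { app := fun U => AddCommGrpCat.ofHom (νf hM U.unop)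
      naturality := fun U V j => by
        ext x
        exact νf_res hM j.unop.le x }
    (fun U r s => νf_smul hM U.unop r s)⟩

theorem ν_app (U : D.Opens) (x : Γ(ClSub.idealMod (sec hM).ker, toD hM ⁻¹ᵁ U)) :
    (ν hM).app U x = νf hM U x := rfl

theorem νf_bijective (U : D.AffineZariskiSite) : Function.Bijective (νf hM U.toOpens) := by
  have hz : ∀ x : Γ(ClSub.idealMod (sec hM).ker, toD hM ⁻¹ᵁ U.toOpens),
      (e hM U.toOpens (idealModLin (sec hM).ker (toD hM ⁻¹ᵁ U.toOpens) x)).fst = 0 := fun x => by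
    rw [← σ_e hM U]
    exact (exists_ideal (sec hM) (toD hM) (sec_toD hM) U.toOpens (U.2.preimage (toD hM)) _).mpr ⟨x, rfl⟩
  constructor
  · rw [injective_iff_map_eq_zero]
    intro x hx
    refine idealModLin_injective (sec hM).ker (toD hM ⁻¹ᵁ U.toOpens) (e_injective hM U.toOpens ?_)
    rw [map_zero, map_zero]
    exact SqExt.ext (hz x) hx
  · intro m
    have h1 : (σ (sec hM) (toD hM) (sec_toD hM) U.toOpens).hom (e' hM U.toOpens (SqExt.inr m)) = 0 :=
      σ_e' hM U _
    obtain ⟨x, hx⟩ :=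
      (exists_ideal (sec hM) (toD hM) (sec_toD hM) U.toOpens (U.2.preimage (toD hM)) _).mp h1
    refine ⟨x, ?_⟩
    have h2 : e hM U.toOpens (idealModLin (sec hM).ker (toD hM ⁻¹ᵁ U.toOpens) x) = SqExt.inr m :=
      (congrArg (e hM U.toOpens) hx).trans (e_e' hM U.toOpens _)
    exact congrArg SqExt.snd h2

theorem isIso_ν : IsIso (ν hM) :=
  isIso_of_affine _ fun U => νf_bijective hM ⟨U.1, U.2⟩

/-- The conormal module of the section of the trivial extension by `M` is `M`. -/
noncomputable def conormalIso :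
    (Scheme.Modules.pullback (sec hM)).obj (ClSub.idealMod (sec hM).ker) ≅ M :=
  have := isIso_ν hM
  (pushIdealIso (sec hM) (toD hM) (sec_toD hM) (ker_sq hM)).symm ≪≫ asIso (ν hM)

theorem finite_inl {A N : Type u} [CommRing A] [AddCommGroup N] [Module A N] [Module.Finite A N] :
    (SqExt.inl : A →+* SqExt A N).Finite := by
  let _ := (SqExt.inl : A →+* SqExt A N).toAlgebra
  let f : (A × N) →ₗ[A] SqExt A N :=
    { toFun := fun x => ⟨x.1, x.2⟩
      map_add' := fun _ _ => rfl
      map_smul' := fun a x => by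
        change (⟨a • x.1, a • x.2⟩ : SqExt A N) = SqExt.inl a * ⟨x.1, x.2⟩
        refine SqExt.ext rfl ?_
        rw [SqExt.mul_snd, SqExt.inl_fst, SqExt.inl_snd, smul_zero, add_zero] }
  exact Module.Finite.of_surjective f fun x => ⟨(x.fst, x.snd), rfl⟩

theorem isFinite_toD (hfin : ∀ U : D.Opens, IsAffineOpen U → Module.Finite Γ(D, U) Γ(M, U)) :
    IsFinite (toD hM) := by
  refine RelSpec.isFinite_toBase (coequifibered hM) fun U => ?_
  have := hfin U.toOpens U.2
  exact finite_inl (A := Γ(D, U.toOpens)) (N := Γ(M, U.toOpens))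

end K932.TrivSec
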